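import Cfsg.Agent.H15.YB.Y1.D

/-! Generated by tools/h15/yb.py. -/

set_option maxRecDepth 100000
set_option maxHeartbeats 0
set_option Elab.async false

namespace H15.YB.Y1

open H16 H16.DC
open H26 (jn)

theorem sj50_0 : allZ (slJ T (nat_lit 12) (nth [] Ws (nat_lit 50)) (nth (BT.leaf 0) Ts (nat_lit 50))) (nat_lit 0) (nat_lit 12) = true := by decide +kernel
theorem sj51_0 : allZ (slJ T (nat_lit 12) (nth [] Ws (nat_lit 51)) (nth (BT.leaf 0) Ts (nat_lit 51))) (nat_lit 0) (nat_lit 12) = true := by decide +kernel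
theorem sj52_0 : allZ (slJ T (nat_lit 12) (nth [] Ws (nat_lit 52)) (nth (BT.leaf 0) Ts (nat_lit 52))) (nat_lit 0) (nat_lit 12) = true := by decide +kernel
theorem sj53_0 : allZ (slJ T (nat_lit 12) (nth [] Ws (nat_lit 53)) (nth (BT.leaf 0) Ts (nat_lit 53))) (nat_lit 0) (nat_lit 12) = true := by decide +kernel
theorem sj54_0 : allZ (slJ T (nat_lit 12) (nth [] Ws (nat_lit 54)) (nth (BT.leaf 0) Ts (nat_lit 54))) (nat_lit 0) (nat_lit 12) = true := by decide +kernel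
theorem sj55_0 : allZ (slJ T (nat_lit 12) (nth [] Ws (nat_lit 55)) (nth (BT.leaf 0) Ts (nat_lit 55))) (nat_lit 0) (nat_lit 12) = true := by decide +kernel
theorem sj56_0 : allZ (slJ T (nat_lit 12) (nth [] Ws (nat_lit 56)) (nth (BT.leaf 0) Ts (nat_lit 56))) (nat_lit 0) (nat_lit 12) = true := by decide +kernel
theorem sj57_0 : allZ (slJ T (nat_lit 12) (nth [] Ws (nat_lit 57)) (nth (BT.leaf 0) Ts (nat_lit 57))) (nat_lit 0) (nat_lit 12) = true := by decide +kernel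
theorem sj58_0 : allZ (slJ T (nat_lit 12) (nth [] Ws (nat_lit 58)) (nth (BT.leaf 0) Ts (nat_lit 58))) (nat_lit 0) (nat_lit 12) = true := by decide +kernel
theorem sj59_0 : allZ (slJ T (nat_lit 12) (nth [] Ws (nat_lit 59)) (nth (BT.leaf 0) Ts (nat_lit 59))) (nat_lit 0) (nat_lit 12) = true := by decide +kernel
theorem sj60_0 : allZ (slJ T (nat_lit 12) (nth [] Ws (nat_lit 60)) (nth (BT.leaf 0) Ts (nat_lit 60))) (nat_lit 0) (nat_lit 12) = true := by decide +kernel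
theorem sj61_0 : allZ (slJ T (nat_lit 12) (nth [] Ws (nat_lit 61)) (nth (BT.leaf 0) Ts (nat_lit 61))) (nat_lit 0) (nat_lit 12) = true := by decide +kernel
theorem sj62_0 : allZ (slJ T (nat_lit 12) (nth [] Ws (nat_lit 62)) (nth (BT.leaf 0) Ts (nat_lit 62))) (nat_lit 0) (nat_lit 12) = true := by decide +kernel
theorem hd : T.n ≤ 2 ^ (nat_lit 12) ∧ (nat_lit 12) < 256 ∧ M = geo 256 (nat_lit 12) := by decide +kernel
theorem qc : q.chk = true := by decide +kernel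
theorem lc : q.lchk C (nat_lit 9) = true := by decide +kernel
theorem wc : allL (ltAll (nat_lit 9)) Ws = true := by decide +kernel
theorem sg : allL (ltAll (nat_lit 9)) Ws = true ∧ (nat_lit 9) ≤ q.Ks ∧ ∀ k < (nat_lit 9), nth [] Ws k = [k] := by decide +kernel
theorem fx0 : ltAll T.n [] = 0 ∧ allL (fixL P (nat_lit 9) []) (pick Ws [nat_lit 0, nat_lit 1, nat_lit 2, nat_lit 3, nat_lit 4, nat_lit 5, nat_lit 6, nat_lit 7, nat_lit 8]) = true := by decide +kernel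
theorem r0_1 : reachX T (Nat.pow (nat_lit 3) (nat_lit 2203)) (pick Ws [nat_lit 0, nat_lit 1, nat_lit 2, nat_lit 3, nat_lit 4, nat_lit 5, nat_lit 6, nat_lit 7, nat_lit 8]) [nat_lit 1, nat_lit 0, nat_lit 2, nat_lit 3, nat_lit 1, nat_lit 4, nat_lit 7, nat_lit 5, nat_lit 8, nat_lit 3, nat_lit 2, nat_lit 6, nat_lit 4, nat_lit 7, nat_lit 3, nat_lit 1, nat_lit 5, nat_lit 4, nat_lit 2, nat_lit 7, nat_lit 8, nat_lit 3, nat_lit 5, nat_lit 1, nat_lit 0, nat_lit 6, nat_lit 7, nat_lit 8, nat_lit 2, nat_lit 4, nat_lit 3, nat_lit 1, nat_lit 5, nat_lit 0, nat_lit 6, nat_lit 2, nat_lit 7, nat_lit 1, nat_lit 3, nat_lit 2] (maskL [(nat_lit 0)]) = m0_1 := by decide +kernel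
theorem pp0 : popM (nat_lit 176) m0_1 = 3510 ∧ (nat_lit 176) < 1048575 ∧ 1 * 3510 = 3510 := by decide +kernel
theorem fx1 : ltAll T.n [nat_lit 0] = 0 ∧ allL (fixL P (nat_lit 9) [nat_lit 0]) (pick Ws [nat_lit 15, nat_lit 19, nat_lit 20, nat_lit 31, nat_lit 33, nat_lit 48, nat_lit 51, nat_lit 60]) = true := by decide +kernel
theorem r1_1 : reachX T (Nat.pow (nat_lit 3) (nat_lit 2175)) (pick Ws [nat_lit 15, nat_lit 19, nat_lit 20, nat_lit 31, nat_lit 33, nat_lit 48, nat_lit 51, nat_lit 60]) [nat_lit 0, nat_lit 1, nat_lit 2, nat_lit 3, nat_lit 6, nat_lit 4, nat_lit 3, nat_lit 1, nat_lit 7, nat_lit 4, nat_lit 3, nat_lit 5, nat_lit 2, nat_lit 4, nat_lit 7, nat_lit 4] (maskL [(nat_lit 2030)]) = m1_1 := by decide +kernel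
theorem pp1 : popM (nat_lit 176) m1_1 = 2816 ∧ (nat_lit 176) < 1048575 ∧ 3510 * 2816 = 9884160 := by decide +kernel
theorem fx2 : ltAll T.n [nat_lit 2030, nat_lit 0] = 0 ∧ allL (fixL P (nat_lit 9) [nat_lit 2030, nat_lit 0]) (pick Ws [nat_lit 26, nat_lit 31, nat_lit 33, nat_lit 48, nat_lit 51, nat_lit 60]) = true := by decide +kernel
theorem r2_1 : reachX T (Nat.pow (nat_lit 3) (nat_lit 2163)) (pick Ws [nat_lit 26, nat_lit 31, nat_lit 33, nat_lit 48, nat_lit 51, nat_lit 60]) [nat_lit 1, nat_lit 2, nat_lit 4, nat_lit 1, nat_lit 2, nat_lit 5, nat_lit 3, nat_lit 1, nat_lit 2, nat_lit 4, nat_lit 1, nat_lit 2, nat_lit 5, nat_lit 2, nat_lit 0] (maskL [(nat_lit 3117)]) = m2_1 := by decide +kernel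
theorem pp2 : popM (nat_lit 176) m2_1 = 1680 ∧ (nat_lit 176) < 1048575 ∧ 9884160 * 1680 = 16605388800 := by decide +kernel
theorem fx3 : ltAll T.n [nat_lit 3117, nat_lit 2030, nat_lit 0] = 0 ∧ allL (fixL P (nat_lit 9) [nat_lit 3117, nat_lit 2030, nat_lit 0]) (pick Ws [nat_lit 41, nat_lit 44, nat_lit 46, nat_lit 48, nat_lit 51, nat_lit 60]) = true := by decide +kernel
theorem r3_1 : reachX T (Nat.pow (nat_lit 3) (nat_lit 2207)) (pick Ws [nat_lit 41, nat_lit 44, nat_lit 46, nat_lit 48, nat_lit 51, nat_lit 60]) [nat_lit 2, nat_lit 0, nat_lit 3, nat_lit 5, nat_lit 4, nat_lit 1, nat_lit 2, nat_lit 4, nat_lit 5, nat_lit 3, nat_lit 2, nat_lit 3] (maskL [(nat_lit 1842)]) = m3_1 := by decide +kernel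
theorem pp3 : popM (nat_lit 176) m3_1 = 243 ∧ (nat_lit 176) < 1048575 ∧ 16605388800 * 243 = 4035109478400 := by decide +kernel
theorem fx4 : ltAll T.n [nat_lit 1842, nat_lit 3117, nat_lit 2030, nat_lit 0] = 0 ∧ allL (fixL P (nat_lit 9) [nat_lit 1842, nat_lit 3117, nat_lit 2030, nat_lit 0]) (pick Ws [nat_lit 48, nat_lit 51, nat_lit 57, nat_lit 60]) = true := by decide +kernel
theorem r4_1 : reachX T (Nat.pow (nat_lit 3) (nat_lit 2195)) (pick Ws [nat_lit 48, nat_lit 51, nat_lit 57, nat_lit 60]) [nat_lit 1, nat_lit 0, nat_lit 3, nat_lit 2] (maskL [(nat_lit 1935)]) = m4_1 := by decide +kernel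
theorem pp4 : popM (nat_lit 176) m4_1 = 16 ∧ (nat_lit 176) < 1048575 ∧ 4035109478400 * 16 = 64561751654400 := by decide +kernel
theorem wcK : ∀ w ∈ WK, ∀ k ∈ w, [k] ∈ UK := by decide +kernel
theorem ucK : allL (ltAll (nat_lit 9)) UK = true := by decide +kernel
theorem fxK0 : ltAll T.n [] = 0 ∧ allL (fixL P (nat_lit 9) []) (pick WK [nat_lit 0, nat_lit 1, nat_lit 2, nat_lit 3, nat_lit 4, nat_lit 5, nat_lit 6, nat_lit 7]) = true := by decide +kernel
theorem rK0_1 : reachX T (Nat.pow (nat_lit 3) (nat_lit 2200)) (pick WK [nat_lit 0, nat_lit 1, nat_lit 2, nat_lit 3, nat_lit 4, nat_lit 5, nat_lit 6, nat_lit 7]) [nat_lit 1, nat_lit 3, nat_lit 5, nat_lit 6, nat_lit 2, nat_lit 7, nat_lit 0, nat_lit 4, nat_lit 1, nat_lit 3, nat_lit 6, nat_lit 0, nat_lit 4, nat_lit 2, nat_lit 5, nat_lit 7, nat_lit 6, nat_lit 1, nat_lit 3, nat_lit 0, nat_lit 4, nat_lit 2, nat_lit 5, nat_lit 3, nat_lit 7, nat_lit 4, nat_lit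 1, nat_lit 5, nat_lit 2, nat_lit 6, nat_lit 3, nat_lit 2, nat_lit 1, nat_lit 0] (maskL [(nat_lit 3423)]) = mK0_1 := by decide +kernel
theorem ppK0 : popM (nat_lit 176) mK0_1 = 3159 ∧ (nat_lit 176) < 1048575 ∧ 1 * 3159 = 3159 := by decide +kernel
theorem fxK1 : ltAll T.n [nat_lit 3423] = 0 ∧ allL (fixL P (nat_lit 9) [nat_lit 3423]) (pick WK [nat_lit 8, nat_lit 9, nat_lit 10, nat_lit 11, nat_lit 15]) = true := by decide +kernel
theorem rK1_1 : reachX T (Nat.pow (nat_lit 3) (nat_lit 2171)) (pick WK [nat_lit 8, nat_lit 9, nat_lit 10, nat_lit 11, nat_lit 15]) [nat_lit 0, nat_lit 1, nat_lit 0, nat_lit 0, nat_lit 1, nat_lit 0, nat_lit 3, nat_lit 0, nat_lit 1, nat_lit 0, nat_lit 0, nat_lit 1, nat_lit 0, nat_lit 2, nat_lit 0, nat_lit 1, nat_lit 4] (maskL [(nat_lit 1596)]) = mK1_1 := by decide +kernel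
theorem ppK1 : popM (nat_lit 176) mK1_1 = 2240 ∧ (nat_lit 176) < 1048575 ∧ 3159 * 2240 = 7076160 := by decide +kernel
theorem fxK2 : ltAll T.n [nat_lit 1596, nat_lit 3423] = 0 ∧ allL (fixL P (nat_lit 9) [nat_lit 1596, nat_lit 3423]) (pick WK [nat_lit 16, nat_lit 17, nat_lit 18, nat_lit 19, nat_lit 20, nat_lit 23]) = true := by decide +kernel
theorem rK2_1 : reachX T (Nat.pow (nat_lit 3) (nat_lit 2165)) (pick WK [nat_lit 16, nat_lit 17, nat_lit 18, nat_lit 19, nat_lit 20, nat_lit 23]) [nat_lit 0, nat_lit 0, nat_lit 1, nat_lit 0, nat_lit 2, nat_lit 0, nat_lit 3, nat_lit 0, nat_lit 2, nat_lit 0, nat_lit 4, nat_lit 0, nat_lit 5, nat_lit 0] (maskL [(nat_lit 0)]) = mK2_1 := by decide +kernel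
theorem ppK2 : popM (nat_lit 176) mK2_1 = 648 ∧ (nat_lit 176) < 1048575 ∧ 7076160 * 648 = 4585351680 := by decide +kernel
theorem wcS : ∀ w ∈ WS, ∀ k ∈ w, [k] ∈ US := by decide +kernel
theorem ucS : allL (ltAll (nat_lit 9)) US = true := by decide +kernel
theorem fxS0 : ltAll T.n [] = 0 ∧ allL (fixL P (nat_lit 9) []) (pick WS [nat_lit 0, nat_lit 1, nat_lit 2, nat_lit 3, nat_lit 4, nat_lit 5, nat_lit 6, nat_lit 7]) = true := by decide +kernel
theorem rS0_1 : reachX T (Nat.pow (nat_lit 3) (nat_lit 2170)) (pick WS [nat_lit 0, nat_lit 1, nat_lit 2, nat_lit 3, nat_lit 4, nat_lit 5, nat_lit 6, nat_lit 7]) [nat_lit 0, nat_lit 1, nat_lit 3, nat_lit 4, nat_lit 7, nat_lit 6, nat_lit 2, nat_lit 3, nat_lit 5, nat_lit 2, nat_lit 6, nat_lit 4, nat_lit 1, nat_lit 3, nat_lit 5, nat_lit 0, nat_lit 2, nat_lit 4, nat_lit 6, nat_lit 3, nat_lit 1, nat_lit 6, nat_lit 7, nat_lit 2, nat_lit 4, nat_lit 1, nat_lit 3,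 nat_lit 6, nat_lit 2, nat_lit 0, nat_lit 3, nat_lit 4, nat_lit 5] (maskL [(nat_lit 2722)]) = mS0_1 := by decide +kernel
theorem ppS0 : popM (nat_lit 176) mS0_1 = 3159 ∧ (nat_lit 176) < 1048575 ∧ 1 * 3159 = 3159 := by decide +kernel
theorem fxS1 : ltAll T.n [nat_lit 2722] = 0 ∧ allL (fixL P (nat_lit 9) [nat_lit 2722]) (pick WS [nat_lit 8, nat_lit 9, nat_lit 10, nat_lit 12, nat_lit 13]) = true := by decide +kernel
theorem rS1_1 : reachX T (Nat.pow (nat_lit 3) (nat_lit 2201)) (pick WS [nat_lit 8, nat_lit 9, nat_lit 10, nat_lit 12, nat_lit 13]) [nat_lit 0, nat_lit 1, nat_lit 0, nat_lit 2, nat_lit 0, nat_lit 1, nat_lit 0, nat_lit 1, nat_lit 0, nat_lit 2, nat_lit 0, nat_lit 1, nat_lit 0, nat_lit 3, nat_lit 1, nat_lit 4] (maskL [(nat_lit 708)]) = mS1_1 := by decide +kernel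
theorem ppS1 : popM (nat_lit 176) mS1_1 = 2240 ∧ (nat_lit 176) < 1048575 ∧ 3159 * 2240 = 7076160 := by decide +kernel
theorem fxS2 : ltAll T.n [nat_lit 708, nat_lit 2722] = 0 ∧ allL (fixL P (nat_lit 9) [nat_lit 708, nat_lit 2722]) (pick WS [nat_lit 16, nat_lit 17, nat_lit 18, nat_lit 19]) = true := by decide +kernel
theorem rS2_1 : reachX T (Nat.pow (nat_lit 3) (nat_lit 2201)) (pick WS [nat_lit 16, nat_lit 17, nat_lit 18, nat_lit 19]) [nat_lit 0, nat_lit 1, nat_lit 2, nat_lit 0, nat_lit 3, nat_lit 0, nat_lit 1, nat_lit 3, nat_lit 2, nat_lit 0, nat_lit 3, nat_lit 0, nat_lit 3] (maskL [(nat_lit 3)]) = mS2_1 := by decide +kernel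
theorem ppS2 : popM (nat_lit 176) mS2_1 = 648 ∧ (nat_lit 176) < 1048575 ∧ 7076160 * 648 = 4585351680 := by decide +kernel

end H15.YB.Y1
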