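import Cfsg.Agent.H15.DH3
import Cfsg.Agent.H15.YB.G0
import Cfsg.Agent.H15.YB.Y1.R0

/-! Generated by tools/h15/yb.py. -/

set_option maxRecDepth 100000
set_option maxHeartbeats 0
set_option Elab.async false

namespace H15.YB.Y1

open H16 H16.DC
open H26 (jn)

noncomputable def T : H26.Tab := H26.F22A.T
theorem wf : T.WF := H26.F22A.wf
noncomputable def Ws : List (List ℕ) := [[nat_lit 0],
  [nat_lit 1],
  [nat_lit 2],
  [nat_lit 3],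
  [nat_lit 4],
  [nat_lit 5],
  [nat_lit 6],
  [nat_lit 7],
  [nat_lit 8],
  [nat_lit 6, nat_lit 7, nat_lit 5, nat_lit 2, nat_lit 8, nat_lit 7, nat_lit 3, nat_lit 4, nat_lit 5, nat_lit 3, nat_lit 7, nat_lit 8, nat_lit 7, nat_lit 4, nat_lit 6, nat_lit 5, nat_lit 0, nat_lit 3, nat_lit 7, nat_lit 1, nat_lit 2, nat_lit 3, nat_lit 7, nat_lit 1, nat_lit 0, nat_lit 2, nat_lit 1, nat_lit 2, nat_lit 3, nat_lit 4, nat_lit 3, nat_lit 2, nat_lit 1, nat_lit 7, nat_lit 3, nat_lit 2, nat_lit 0, nat_lit 1, nat_lit 5, nat_lit 6, nat_lit 4, nat_lit 3, nat_lit 4, nat_lit 7, nat_lit 3, nat_lit 7, nat_lit 8, nat_lit 2, nat_lit 3, nat_lit 7, nat_lit 3, nat_lit 4, nat_lit 3, nat_lit 2, nat_lit 6, nat_lit 5, nat_lit 4, nat_lit 3, nat_lit 2, nat_lit 4, nat_lit 5, nat_lit 6, nat_lit 3, nat_lit 2, nat_lit 7, nat_lit 3, nat_lit 4, nat_lit 5, nat_lit 3, nat_lit 7, nat_lit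 2, nat_lit 3, nat_lit 4, nat_lit 8, nat_lit 7, nat_lit 3, nat_lit 2, nat_lit 7, nat_lit 8, nat_lit 4, nat_lit 3, nat_lit 4, nat_lit 5, nat_lit 6, nat_lit 5, nat_lit 4, nat_lit 3, nat_lit 7, nat_lit 5, nat_lit 4, nat_lit 2, nat_lit 3, nat_lit 0, nat_lit 1, nat_lit 0, nat_lit 2, nat_lit 3, nat_lit 1, nat_lit 2, nat_lit 7, nat_lit 3, nat_lit 2, nat_lit 1, nat_lit 4, nat_lit 3, nat_lit 2, nat_lit 1, nat_lit 7, nat_lit 3, nat_lit 2, nat_lit 0, nat_lit 1, nat_lit 0, nat_lit 6, nat_lit 5, nat_lit 8, nat_lit 7, nat_lit 3, nat_lit 2, nat_lit 4, nat_lit 8, nat_lit 1, nat_lit 2, nat_lit 3, nat_lit 4, nat_lit 5, nat_lit 7, nat_lit 1, nat_lit 2, nat_lit 4, nat_lit 3, nat_lit 7, nat_lit 8, nat_lit 7, nat_lit 3, nat_lit 4, nat_lit 1, nat_lit 2, nat_lit 3, nat_lit 7, nat_lit 1, nat_lit 0, nat_lit 2, nat_lit 1, nat_lit 3, nat_lit 4, nat_lit 5, nat_lit 6, nat_lit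 5, nat_lit 4, nat_lit 3, nat_lit 4, nat_lit 3, nat_lit 7, nat_lit 2, nat_lit 3, nat_lit 6, nat_lit 5, nat_lit 4, nat_lit 1, nat_lit 2, nat_lit 3, nat_lit 4, nat_lit 5, nat_lit 7, nat_lit 1, nat_lit 2, nat_lit 3, nat_lit 4, nat_lit 3, nat_lit 7, nat_lit 8, nat_lit 7, nat_lit 3, nat_lit 4, nat_lit 1, nat_lit 2, nat_lit 3, nat_lit 4, nat_lit 1, nat_lit 2, nat_lit 3, nat_lit 7, nat_lit 1, nat_lit 0, nat_lit 2, nat_lit 3],
  [nat_lit 2, nat_lit 5, nat_lit 7, nat_lit 3, nat_lit 2, nat_lit 4, nat_lit 7, nat_lit 3, nat_lit 6, nat_lit 5, nat_lit 7, nat_lit 6, nat_lit 4, nat_lit 2, nat_lit 3, nat_lit 7, nat_lit 0, nat_lit 3, nat_lit 4, nat_lit 8, nat_lit 7, nat_lit 5, nat_lit 6, nat_lit 3, nat_lit 0, nat_lit 1, nat_lit 2, nat_lit 3, nat_lit 7, nat_lit 1, nat_lit 0, nat_lit 2, nat_lit 1, nat_lit 0, nat_lit 3, nat_lit 4, nat_lit 2, nat_lit 3, nat_lit 7,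 nat_lit 5, nat_lit 4, nat_lit 3, nat_lit 2, nat_lit 1, nat_lit 7, nat_lit 5, nat_lit 4, nat_lit 1, nat_lit 8, nat_lit 7, nat_lit 3, nat_lit 0, nat_lit 2, nat_lit 1, nat_lit 4, nat_lit 3, nat_lit 2, nat_lit 0, nat_lit 1, nat_lit 6, nat_lit 0, nat_lit 3, nat_lit 7, nat_lit 4, nat_lit 3, nat_lit 6, nat_lit 5, nat_lit 4, nat_lit 3, nat_lit 2, nat_lit 4, nat_lit 7, nat_lit 4, nat_lit 3, nat_lit 2, nat_lit 6, nat_lit 4, nat_lit 5, nat_lit 6, nat_lit 8, nat_lit 7, nat_lit 3, nat_lit 4, nat_lit 5, nat_lit 3, nat_lit 7, nat_lit 8, nat_lit 7, nat_lit 2, nat_lit 1, nat_lit 0, nat_lit 2, nat_lit 3, nat_lit 4, nat_lit 1, nat_lit 0, nat_lit 2, nat_lit 3, nat_lit 7, nat_lit 1, nat_lit 2, nat_lit 3, nat_lit 2, nat_lit 1, nat_lit 4, nat_lit 3, nat_lit 2, nat_lit 0, nat_lit 1, nat_lit 0, nat_lit 3, nat_lit 7, nat_lit 8, nat_lit 6, nat_lit 4, nat_lit 5, nat_lit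 6, nat_lit 5, nat_lit 0, nat_lit 4, nat_lit 1, nat_lit 2, nat_lit 3, nat_lit 4, nat_lit 5, nat_lit 7, nat_lit 5, nat_lit 3, nat_lit 8, nat_lit 7, nat_lit 4, nat_lit 3, nat_lit 2, nat_lit 8, nat_lit 6, nat_lit 4, nat_lit 5, nat_lit 6, nat_lit 5, nat_lit 4, nat_lit 3, nat_lit 7, nat_lit 1, nat_lit 0, nat_lit 2, nat_lit 3, nat_lit 4, nat_lit 1, nat_lit 2, nat_lit 3, nat_lit 4, nat_lit 5, nat_lit 2, nat_lit 5, nat_lit 4, nat_lit 2, nat_lit 5],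
  [nat_lit 6, nat_lit 5, nat_lit 4, nat_lit 3, nat_lit 2, nat_lit 4, nat_lit 5, nat_lit 6, nat_lit 5, nat_lit 6, nat_lit 3, nat_lit 7, nat_lit 8, nat_lit 1, nat_lit 0, nat_lit 2, nat_lit 3, nat_lit 1, nat_lit 0, nat_lit 2, nat_lit 1, nat_lit 4, nat_lit 3, nat_lit 7, nat_lit 8, nat_lit 7, nat_lit 3, nat_lit 4, nat_lit 2, nat_lit 1, nat_lit 3, nat_lit 2, nat_lit 0, nat_lit 1, nat_lit 0, nat_lit 3, nat_lit 4, nat_lit 3, nat_lit 7, nat_lit 6, nat_lit 5, nat_lit 3, nat_lit 4, nat_lit 1, nat_lit 0, nat_lit 1, nat_lit 2, nat_lit 3, nat_lit 4, nat_lit 3, nat_lit 7, nat_lit 8, nat_lit 7, nat_lit 3, nat_lit 4, nat_lit 7, nat_lit 5, nat_lit 8, nat_lit 7, nat_lit 8, nat_lit 4, nat_lit 2, nat_lit 3, nat_lit 7, nat_lit 8, nat_lit 4, nat_lit 6, nat_lit 5, nat_lit 7, nat_lit 4, nat_lit 2, nat_lit 3, nat_lit 4, nat_lit 5, nat_lit 6, nat_lit 2, nat_lit 7, nat_lit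 8, nat_lit 1],
  [nat_lit 2, nat_lit 7, nat_lit 3, nat_lit 6, nat_lit 7, nat_lit 4, nat_lit 5, nat_lit 8, nat_lit 7, nat_lit 2, nat_lit 3, nat_lit 7, nat_lit 8, nat_lit 7, nat_lit 3, nat_lit 4, nat_lit 5, nat_lit 3, nat_lit 7, nat_lit 8, nat_lit 6, nat_lit 5, nat_lit 7, nat_lit 4, nat_lit 2, nat_lit 3, nat_lit 4, nat_lit 5, nat_lit 8, nat_lit 7, nat_lit 1, nat_lit 0, nat_lit 2, nat_lit 3, nat_lit 0, nat_lit 4, nat_lit 3, nat_lit 5, nat_lit 1, nat_lit 2, nat_lit 4, nat_lit 3, nat_lit 7, nat_lit 8, nat_lit 7, nat_lit 3, nat_lit 4, nat_lit 1, nat_lit 2, nat_lit 3, nat_lit 4, nat_lit 1, nat_lit 2, nat_lit 3, nat_lit 7, nat_lit 4, nat_lit 3, nat_lit 2, nat_lit 5, nat_lit 1, nat_lit 2, nat_lit 3, nat_lit 4, nat_lit 5, nat_lit 6, nat_lit 5, nat_lit 4, nat_lit 3, nat_lit 1, nat_lit 0, nat_lit 1, nat_lit 0, nat_lit 2, nat_lit 1, nat_lit 4, nat_lit 3,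 nat_lit 7, nat_lit 8, nat_lit 7, nat_lit 3, nat_lit 4, nat_lit 8, nat_lit 7, nat_lit 4],
  [nat_lit 6, nat_lit 8, nat_lit 7, nat_lit 8, nat_lit 5, nat_lit 3, nat_lit 4, nat_lit 1, nat_lit 0, nat_lit 2, nat_lit 3, nat_lit 7, nat_lit 1, nat_lit 2, nat_lit 3, nat_lit 7, nat_lit 5, nat_lit 4, nat_lit 7, nat_lit 5, nat_lit 4, nat_lit 3, nat_lit 2, nat_lit 1, nat_lit 7, nat_lit 3, nat_lit 2, nat_lit 0, nat_lit 1, nat_lit 6, nat_lit 5, nat_lit 8, nat_lit 7, nat_lit 0, nat_lit 3, nat_lit 2, nat_lit 8, nat_lit 4, nat_lit 3, nat_lit 2, nat_lit 7, nat_lit 8, nat_lit 5, nat_lit 3, nat_lit 4, nat_lit 1, nat_lit 0, nat_lit 2, nat_lit 3, nat_lit 7, nat_lit 1, nat_lit 2, nat_lit 3, nat_lit 7, nat_lit 5, nat_lit 4, nat_lit 3, nat_lit 2, nat_lit 1, nat_lit 7, nat_lit 3, nat_lit 2, nat_lit 0, nat_lit 1, nat_lit 4, nat_lit 3, nat_lit 2, nat_lit 6, nat_lit 3, nat_lit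 4, nat_lit 5, nat_lit 7, nat_lit 8, nat_lit 6, nat_lit 3, nat_lit 4, nat_lit 7, nat_lit 2, nat_lit 3, nat_lit 4, nat_lit 3, nat_lit 6, nat_lit 7, nat_lit 3, nat_lit 4, nat_lit 5, nat_lit 8, nat_lit 7, nat_lit 2, nat_lit 3, nat_lit 4, nat_lit 8, nat_lit 7, nat_lit 3, nat_lit 2, nat_lit 7, nat_lit 8, nat_lit 4, nat_lit 5, nat_lit 7, nat_lit 4, nat_lit 6, nat_lit 5, nat_lit 4, nat_lit 8, nat_lit 7, nat_lit 1, nat_lit 0, nat_lit 2, nat_lit 3, nat_lit 7, nat_lit 1, nat_lit 2, nat_lit 4, nat_lit 5, nat_lit 6, nat_lit 8, nat_lit 3, nat_lit 2, nat_lit 1, nat_lit 0, nat_lit 2, nat_lit 3, nat_lit 7, nat_lit 1, nat_lit 2, nat_lit 3, nat_lit 1, nat_lit 2, nat_lit 3, nat_lit 4, nat_lit 5, nat_lit 7, nat_lit 0, nat_lit 3, nat_lit 2, nat_lit 4, nat_lit 6, nat_lit 5, nat_lit 8, nat_lit 7, nat_lit 3, nat_lit 4, nat_lit 2, nat_lit 6, nat_lit 5, nat_lit 2, nat_lit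 4, nat_lit 6, nat_lit 5, nat_lit 2, nat_lit 1],
  [nat_lit 5, nat_lit 1, nat_lit 8, nat_lit 7, nat_lit 3, nat_lit 4, nat_lit 5, nat_lit 3, nat_lit 7, nat_lit 8, nat_lit 7, nat_lit 4, nat_lit 6, nat_lit 5, nat_lit 0, nat_lit 3, nat_lit 7, nat_lit 1, nat_lit 2, nat_lit 3, nat_lit 7, nat_lit 1, nat_lit 0, nat_lit 2, nat_lit 1, nat_lit 2, nat_lit 3, nat_lit 4, nat_lit 3, nat_lit 2, nat_lit 1, nat_lit 7, nat_lit 3, nat_lit 2, nat_lit 0, nat_lit 1, nat_lit 5, nat_lit 6, nat_lit 4, nat_lit 3, nat_lit 4, nat_lit 7, nat_lit 3, nat_lit 7, nat_lit 8, nat_lit 2, nat_lit 3, nat_lit 7, nat_lit 3, nat_lit 4, nat_lit 3, nat_lit 2, nat_lit 6, nat_lit 5, nat_lit 4, nat_lit 3, nat_lit 2, nat_lit 6, nat_lit 4, nat_lit 5, nat_lit 6, nat_lit 3, nat_lit 6, nat_lit 7, nat_lit 3, nat_lit 4, nat_lit 5, nat_lit 8, nat_lit 7, nat_lit 2, nat_lit 3, nat_lit 2, nat_lit 4,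 nat_lit 8, nat_lit 7, nat_lit 3, nat_lit 2, nat_lit 4, nat_lit 8, nat_lit 7, nat_lit 8, nat_lit 0, nat_lit 3, nat_lit 2, nat_lit 6, nat_lit 1, nat_lit 0, nat_lit 2, nat_lit 3, nat_lit 1, nat_lit 0, nat_lit 2, nat_lit 1, nat_lit 4, nat_lit 3, nat_lit 7, nat_lit 8, nat_lit 7, nat_lit 3, nat_lit 4, nat_lit 2, nat_lit 1, nat_lit 3, nat_lit 2, nat_lit 0, nat_lit 1, nat_lit 3, nat_lit 7, nat_lit 1, nat_lit 0, nat_lit 2, nat_lit 3, nat_lit 7, nat_lit 0, nat_lit 4, nat_lit 8, nat_lit 7, nat_lit 6, nat_lit 5, nat_lit 4, nat_lit 0, nat_lit 3, nat_lit 2, nat_lit 7, nat_lit 8, nat_lit 3, nat_lit 4, nat_lit 5, nat_lit 0, nat_lit 6, nat_lit 8, nat_lit 1],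
  [nat_lit 0],
  [nat_lit 4, nat_lit 1, nat_lit 1, nat_lit 6, nat_lit 1, nat_lit 0, nat_lit 2, nat_lit 3, nat_lit 1, nat_lit 2, nat_lit 7, nat_lit 3, nat_lit 2, nat_lit 1, nat_lit 4, nat_lit 3, nat_lit 2, nat_lit 1, nat_lit 7, nat_lit 3, nat_lit 2, nat_lit 0, nat_lit 1, nat_lit 8, nat_lit 5, nat_lit 6, nat_lit 7, nat_lit 3, nat_lit 0, nat_lit 1, nat_lit 0, nat_lit 2, nat_lit 3, nat_lit 4, nat_lit 1, nat_lit 2, nat_lit 3, nat_lit 8, nat_lit 7, nat_lit 3, nat_lit 2, nat_lit 1, nat_lit 4, nat_lit 3, nat_lit 2, nat_lit 0, nat_lit 1, nat_lit 2, nat_lit 3, nat_lit 0, nat_lit 8, nat_lit 5, nat_lit 4, nat_lit 3, nat_lit 2, nat_lit 0, nat_lit 3, nat_lit 7, nat_lit 4, nat_lit 3, nat_lit 2, nat_lit 8, nat_lit 6, nat_lit 5, nat_lit 4, nat_lit 0, nat_lit 3, nat_lit 7, nat_lit 2, nat_lit 3, nat_lit 6, nat_lit 5, nat_lit 4, nat_lit 3, nat_lit 2, nat_lit 4,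 nat_lit 5, nat_lit 6, nat_lit 3, nat_lit 7, nat_lit 3, nat_lit 4, nat_lit 5, nat_lit 8, nat_lit 7, nat_lit 5, nat_lit 6, nat_lit 3, nat_lit 2, nat_lit 8, nat_lit 7, nat_lit 1, nat_lit 0, nat_lit 2, nat_lit 3, nat_lit 4, nat_lit 1, nat_lit 0, nat_lit 2, nat_lit 1, nat_lit 3, nat_lit 8, nat_lit 7, nat_lit 3, nat_lit 0, nat_lit 2, nat_lit 1, nat_lit 4, nat_lit 3, nat_lit 2, nat_lit 0, nat_lit 1],
  [nat_lit 1, nat_lit 0, nat_lit 2, nat_lit 3, nat_lit 7, nat_lit 1, nat_lit 2, nat_lit 3, nat_lit 4, nat_lit 3, nat_lit 2, nat_lit 1, nat_lit 2, nat_lit 0, nat_lit 1, nat_lit 7, nat_lit 3, nat_lit 2, nat_lit 1, nat_lit 7, nat_lit 5, nat_lit 3, nat_lit 4, nat_lit 6, nat_lit 8, nat_lit 7, nat_lit 3, nat_lit 0, nat_lit 1, nat_lit 0, nat_lit 2, nat_lit 3, nat_lit 4, nat_lit 1, nat_lit 2, nat_lit 3, nat_lit 2, nat_lit 1, nat_lit 7, nat_lit 3, nat_lit 2, nat_lit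 0, nat_lit 1, nat_lit 4, nat_lit 3, nat_lit 2, nat_lit 0, nat_lit 1, nat_lit 0, nat_lit 3, nat_lit 7, nat_lit 8, nat_lit 4, nat_lit 5, nat_lit 4, nat_lit 3, nat_lit 5, nat_lit 2, nat_lit 0, nat_lit 3, nat_lit 7, nat_lit 4, nat_lit 3, nat_lit 2, nat_lit 8, nat_lit 6, nat_lit 5, nat_lit 4, nat_lit 0, nat_lit 3, nat_lit 7, nat_lit 2, nat_lit 3, nat_lit 7, nat_lit 3, nat_lit 4, nat_lit 5, nat_lit 6, nat_lit 5, nat_lit 4, nat_lit 3, nat_lit 4, nat_lit 8, nat_lit 7, nat_lit 3, nat_lit 2, nat_lit 4, nat_lit 8, nat_lit 7, nat_lit 8, nat_lit 5, nat_lit 7, nat_lit 3, nat_lit 2, nat_lit 4, nat_lit 7, nat_lit 3, nat_lit 6, nat_lit 5, nat_lit 7, nat_lit 6, nat_lit 4, nat_lit 2, nat_lit 3, nat_lit 7, nat_lit 3, nat_lit 4, nat_lit 3, nat_lit 5, nat_lit 4, nat_lit 1, nat_lit 0, nat_lit 2, nat_lit 3, nat_lit 7, nat_lit 1, nat_lit 2, nat_lit 3, nat_lit 4, nat_lit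 5, nat_lit 7, nat_lit 3, nat_lit 2, nat_lit 1, nat_lit 7, nat_lit 3, nat_lit 2, nat_lit 0, nat_lit 1, nat_lit 4, nat_lit 3, nat_lit 5, nat_lit 8, nat_lit 7, nat_lit 8, nat_lit 6, nat_lit 0, nat_lit 4],
  [nat_lit 3, nat_lit 2, nat_lit 0, nat_lit 4, nat_lit 0, nat_lit 6, nat_lit 5, nat_lit 4, nat_lit 1, nat_lit 0, nat_lit 2, nat_lit 3, nat_lit 7, nat_lit 1, nat_lit 2, nat_lit 3, nat_lit 4, nat_lit 1, nat_lit 2, nat_lit 3, nat_lit 7, nat_lit 2, nat_lit 1, nat_lit 3, nat_lit 2, nat_lit 0, nat_lit 1, nat_lit 0, nat_lit 4, nat_lit 5, nat_lit 6, nat_lit 7, nat_lit 5, nat_lit 3, nat_lit 7, nat_lit 8, nat_lit 2, nat_lit 3, nat_lit 4, nat_lit 5, nat_lit 6, nat_lit 3, nat_lit 7, nat_lit 4, nat_lit 3, nat_lit 2, nat_lit 8, nat_lit 7, nat_lit 3, nat_lit 5, nat_lit 4, nat_lit 3, nat_lit 7, nat_lit 8, nat_lit 3, nat_lit 2, nat_lit 7, nat_lit 3, nat_lit 5,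 nat_lit 4, nat_lit 3, nat_lit 7, nat_lit 2, nat_lit 3, nat_lit 5, nat_lit 7, nat_lit 3, nat_lit 4, nat_lit 5, nat_lit 6, nat_lit 5, nat_lit 4, nat_lit 3, nat_lit 8, nat_lit 7, nat_lit 8, nat_lit 4, nat_lit 2, nat_lit 3, nat_lit 7, nat_lit 8, nat_lit 4, nat_lit 7, nat_lit 5, nat_lit 2, nat_lit 1, nat_lit 0, nat_lit 2, nat_lit 3, nat_lit 1, nat_lit 2, nat_lit 4, nat_lit 3, nat_lit 7, nat_lit 8, nat_lit 7, nat_lit 3, nat_lit 4, nat_lit 2, nat_lit 1, nat_lit 3, nat_lit 2, nat_lit 0, nat_lit 1, nat_lit 2, nat_lit 3, nat_lit 4, nat_lit 5, nat_lit 3, nat_lit 4, nat_lit 6, nat_lit 8, nat_lit 7, nat_lit 3, nat_lit 0],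
  [nat_lit 0, nat_lit 2, nat_lit 1, nat_lit 2, nat_lit 4, nat_lit 8, nat_lit 7, nat_lit 3, nat_lit 2, nat_lit 4, nat_lit 8, nat_lit 7, nat_lit 8, nat_lit 3, nat_lit 4, nat_lit 5, nat_lit 8, nat_lit 0, nat_lit 3, nat_lit 2, nat_lit 4, nat_lit 3, nat_lit 0, nat_lit 1, nat_lit 0, nat_lit 1, nat_lit 0, nat_lit 2, nat_lit 3, nat_lit 2, nat_lit 7, nat_lit 6, nat_lit 4, nat_lit 3, nat_lit 8, nat_lit 7, nat_lit 3, nat_lit 6, nat_lit 5, nat_lit 4, nat_lit 2, nat_lit 3, nat_lit 4, nat_lit 5, nat_lit 6, nat_lit 1, nat_lit 0, nat_lit 2, nat_lit 3, nat_lit 4, nat_lit 6, nat_lit 5, nat_lit 4, nat_lit 1, nat_lit 0, nat_lit 2],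
  [nat_lit 2, nat_lit 7, nat_lit 3, nat_lit 7, nat_lit 3, nat_lit 2, nat_lit 4, nat_lit 3, nat_lit 5, nat_lit 7, nat_lit 3, nat_lit 4, nat_lit 6, nat_lit 5, nat_lit 4, nat_lit 2, nat_lit 3, nat_lit 8, nat_lit 7, nat_lit 8, nat_lit 4, nat_lit 3, nat_lit 7, nat_lit 8, nat_lit 4, nat_lit 6, nat_lit 5, nat_lit 4, nat_lit 6, nat_lit 2, nat_lit 3, nat_lit 4, nat_lit 7, nat_lit 4, nat_lit 2, nat_lit 3, nat_lit 4, nat_lit 5, nat_lit 6, nat_lit 1, nat_lit 0, nat_lit 2, nat_lit 3, nat_lit 1, nat_lit 2, nat_lit 4, nat_lit 3, nat_lit 7, nat_lit 8, nat_lit 7, nat_lit 3, nat_lit 4, nat_lit 2, nat_lit 1, nat_lit 3, nat_lit 2, nat_lit 0, nat_lit 1, nat_lit 3, nat_lit 2, nat_lit 6, nat_lit 7, nat_lit 6, nat_lit 5, nat_lit 3, nat_lit 4, nat_lit 0],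
  [nat_lit 6, nat_lit 7, nat_lit 8, nat_lit 4, nat_lit 8, nat_lit 7, nat_lit 3, nat_lit 2, nat_lit 7, nat_lit 8, nat_lit 4, nat_lit 3, nat_lit 2, nat_lit 6, nat_lit 5, nat_lit 7, nat_lit 5, nat_lit 3, nat_lit 4, nat_lit 1, nat_lit 0, nat_lit 2, nat_lit 3, nat_lit 7, nat_lit 1, nat_lit 2, nat_lit 3, nat_lit 7, nat_lit 5, nat_lit 4, nat_lit 3, nat_lit 2, nat_lit 1, nat_lit 7, nat_lit 3, nat_lit 2, nat_lit 0, nat_lit 1, nat_lit 8, nat_lit 5, nat_lit 3, nat_lit 4, nat_lit 7, nat_lit 3, nat_lit 0, nat_lit 6, nat_lit 5, nat_lit 4, nat_lit 3, nat_lit 2, nat_lit 4, nat_lit 7, nat_lit 5, nat_lit 6, nat_lit 3, nat_lit 8, nat_lit 7, nat_lit 4, nat_lit 3, nat_lit 2, nat_lit 8, nat_lit 6, nat_lit 7, nat_lit 8, nat_lit 2, nat_lit 3, nat_lit 4, nat_lit 5, nat_lit 6, nat_lit 3, nat_lit 7, nat_lit 4, nat_lit 3, nat_lit 5, nat_lit 7, nat_lit 3, nat_lit 2, nat_lit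 6, nat_lit 8],
  [nat_lit 7, nat_lit 7, nat_lit 8, nat_lit 3, nat_lit 2, nat_lit 5, nat_lit 3, nat_lit 8, nat_lit 7, nat_lit 4, nat_lit 3, nat_lit 2, nat_lit 8, nat_lit 6, nat_lit 3, nat_lit 5, nat_lit 4, nat_lit 3, nat_lit 7, nat_lit 4, nat_lit 3, nat_lit 8, nat_lit 2, nat_lit 3, nat_lit 4, nat_lit 7, nat_lit 5, nat_lit 4, nat_lit 6, nat_lit 4, nat_lit 3, nat_lit 2, nat_lit 5, nat_lit 0, nat_lit 4, nat_lit 5, nat_lit 1, nat_lit 2, nat_lit 3, nat_lit 7, nat_lit 1, nat_lit 0, nat_lit 2, nat_lit 1, nat_lit 2, nat_lit 3, nat_lit 4, nat_lit 3, nat_lit 2, nat_lit 1, nat_lit 7, nat_lit 3, nat_lit 2, nat_lit 0, nat_lit 1, nat_lit 7, nat_lit 6, nat_lit 3, nat_lit 4, nat_lit 8, nat_lit 5, nat_lit 6, nat_lit 3, nat_lit 7, nat_lit 2, nat_lit 3, nat_lit 4, nat_lit 5, nat_lit 3, nat_lit 8, nat_lit 7, nat_lit 4, nat_lit 3, nat_lit 2, nat_lit 8, nat_lit 6,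 nat_lit 4, nat_lit 5, nat_lit 6, nat_lit 5, nat_lit 4, nat_lit 3, nat_lit 7, nat_lit 4, nat_lit 3, nat_lit 2, nat_lit 3, nat_lit 4, nat_lit 5, nat_lit 7, nat_lit 6, nat_lit 4, nat_lit 3, nat_lit 0, nat_lit 4, nat_lit 8],
  [nat_lit 2, nat_lit 0, nat_lit 3, nat_lit 6, nat_lit 4, nat_lit 6, nat_lit 5, nat_lit 4, nat_lit 1, nat_lit 2, nat_lit 0, nat_lit 3, nat_lit 7, nat_lit 8, nat_lit 1, nat_lit 2, nat_lit 3, nat_lit 7, nat_lit 1, nat_lit 2, nat_lit 3, nat_lit 4, nat_lit 5, nat_lit 7, nat_lit 3, nat_lit 2, nat_lit 1, nat_lit 8, nat_lit 7, nat_lit 3, nat_lit 0, nat_lit 2, nat_lit 1, nat_lit 4, nat_lit 5, nat_lit 6, nat_lit 8, nat_lit 3, nat_lit 6, nat_lit 8, nat_lit 2, nat_lit 3, nat_lit 4, nat_lit 7, nat_lit 8, nat_lit 3, nat_lit 2, nat_lit 0, nat_lit 3, nat_lit 4, nat_lit 7, nat_lit 3, nat_lit 6, nat_lit 5, nat_lit 4, nat_lit 8, nat_lit 7, nat_lit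 3, nat_lit 7, nat_lit 2, nat_lit 3, nat_lit 0, nat_lit 8, nat_lit 7, nat_lit 3, nat_lit 5, nat_lit 4, nat_lit 3, nat_lit 7, nat_lit 8, nat_lit 2, nat_lit 6, nat_lit 5, nat_lit 4, nat_lit 6, nat_lit 2, nat_lit 3, nat_lit 4, nat_lit 5, nat_lit 6, nat_lit 5, nat_lit 7, nat_lit 4, nat_lit 3, nat_lit 2, nat_lit 6, nat_lit 3, nat_lit 4, nat_lit 5, nat_lit 7, nat_lit 8, nat_lit 6, nat_lit 3, nat_lit 4, nat_lit 7, nat_lit 2, nat_lit 3, nat_lit 4, nat_lit 0, nat_lit 4, nat_lit 6, nat_lit 8],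
  [nat_lit 7, nat_lit 3, nat_lit 4, nat_lit 6, nat_lit 5, nat_lit 0, nat_lit 4, nat_lit 8, nat_lit 7, nat_lit 3, nat_lit 2, nat_lit 4, nat_lit 6, nat_lit 1, nat_lit 0, nat_lit 2, nat_lit 3, nat_lit 7, nat_lit 1, nat_lit 2, nat_lit 3, nat_lit 4, nat_lit 5, nat_lit 7, nat_lit 3, nat_lit 2, nat_lit 1, nat_lit 7, nat_lit 3, nat_lit 2, nat_lit 0, nat_lit 1, nat_lit 4, nat_lit 3, nat_lit 5, nat_lit 8, nat_lit 4, nat_lit 5, nat_lit 6, nat_lit 8, nat_lit 3, nat_lit 2, nat_lit 8, nat_lit 7, nat_lit 3, nat_lit 7, nat_lit 8, nat_lit 1, nat_lit 0, nat_lit 2, nat_lit 3, nat_lit 4, nat_lit 1, nat_lit 2, nat_lit 3, nat_lit 1, nat_lit 8, nat_lit 7, nat_lit 3, nat_lit 0, nat_lit 2, nat_lit 1, nat_lit 4, nat_lit 3, nat_lit 2, nat_lit 0, nat_lit 1, nat_lit 8, nat_lit 4, nat_lit 5, nat_lit 6, nat_lit 4, nat_lit 2, nat_lit 7, nat_lit 3, nat_lit 4, nat_lit 5, nat_lit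 6, nat_lit 5, nat_lit 4, nat_lit 3, nat_lit 8, nat_lit 7, nat_lit 8, nat_lit 4, nat_lit 2, nat_lit 3, nat_lit 7, nat_lit 8, nat_lit 4, nat_lit 7, nat_lit 5, nat_lit 3, nat_lit 4, nat_lit 5, nat_lit 7, nat_lit 6, nat_lit 4, nat_lit 3, nat_lit 0, nat_lit 4, nat_lit 8, nat_lit 1, nat_lit 0, nat_lit 2, nat_lit 3, nat_lit 7, nat_lit 1, nat_lit 2, nat_lit 3, nat_lit 4, nat_lit 5, nat_lit 7, nat_lit 3, nat_lit 2, nat_lit 1, nat_lit 7, nat_lit 3, nat_lit 2, nat_lit 0, nat_lit 1, nat_lit 4, nat_lit 3, nat_lit 5, nat_lit 7, nat_lit 6, nat_lit 2, nat_lit 3, nat_lit 4, nat_lit 3, nat_lit 2, nat_lit 4, nat_lit 3, nat_lit 5, nat_lit 6, nat_lit 1, nat_lit 0, nat_lit 2, nat_lit 3, nat_lit 7, nat_lit 1, nat_lit 2, nat_lit 3, nat_lit 4, nat_lit 3, nat_lit 2, nat_lit 1, nat_lit 2, nat_lit 0, nat_lit 1, nat_lit 7, nat_lit 3, nat_lit 2, nat_lit 1, nat_lit 5, nat_lit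 2, nat_lit 3, nat_lit 4],
  [nat_lit 2, nat_lit 6, nat_lit 1, nat_lit 8, nat_lit 0, nat_lit 4, nat_lit 3, nat_lit 5, nat_lit 4, nat_lit 3, nat_lit 2, nat_lit 6, nat_lit 8, nat_lit 4, nat_lit 3, nat_lit 5, nat_lit 4, nat_lit 5, nat_lit 3, nat_lit 4, nat_lit 1, nat_lit 2, nat_lit 3, nat_lit 4, nat_lit 1, nat_lit 0, nat_lit 2, nat_lit 1, nat_lit 2, nat_lit 3, nat_lit 4, nat_lit 8, nat_lit 7, nat_lit 3, nat_lit 0, nat_lit 2, nat_lit 1, nat_lit 4, nat_lit 3, nat_lit 2, nat_lit 0, nat_lit 1, nat_lit 5, nat_lit 4, nat_lit 1, nat_lit 0, nat_lit 2, nat_lit 4, nat_lit 3, nat_lit 7, nat_lit 8, nat_lit 7, nat_lit 3, nat_lit 4, nat_lit 1, nat_lit 0, nat_lit 2, nat_lit 3, nat_lit 4, nat_lit 1, nat_lit 2, nat_lit 3, nat_lit 1, nat_lit 8, nat_lit 7, nat_lit 3, nat_lit 0, nat_lit 2, nat_lit 1, nat_lit 6, nat_lit 5, nat_lit 4, nat_lit 3, nat_lit 2, nat_lit 7,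 nat_lit 6, nat_lit 4, nat_lit 3, nat_lit 8, nat_lit 7, nat_lit 8, nat_lit 7, nat_lit 4, nat_lit 3, nat_lit 2, nat_lit 8, nat_lit 6, nat_lit 3, nat_lit 7, nat_lit 3, nat_lit 4, nat_lit 5, nat_lit 6, nat_lit 5, nat_lit 4, nat_lit 3, nat_lit 7, nat_lit 5, nat_lit 2, nat_lit 8, nat_lit 7, nat_lit 8, nat_lit 4, nat_lit 3, nat_lit 7, nat_lit 8, nat_lit 4, nat_lit 3, nat_lit 2, nat_lit 7, nat_lit 3, nat_lit 4, nat_lit 5, nat_lit 4, nat_lit 3, nat_lit 7, nat_lit 2, nat_lit 3, nat_lit 8, nat_lit 7, nat_lit 3, nat_lit 1, nat_lit 2, nat_lit 3, nat_lit 4, nat_lit 5, nat_lit 7, nat_lit 1, nat_lit 2, nat_lit 4, nat_lit 3, nat_lit 7, nat_lit 8, nat_lit 7, nat_lit 3, nat_lit 4, nat_lit 1, nat_lit 0, nat_lit 2, nat_lit 3, nat_lit 1, nat_lit 2, nat_lit 3, nat_lit 4, nat_lit 7, nat_lit 1, nat_lit 0, nat_lit 2, nat_lit 3, nat_lit 1, nat_lit 2, nat_lit 3, nat_lit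 4, nat_lit 5, nat_lit 6, nat_lit 5, nat_lit 4, nat_lit 3],
  [nat_lit 3, nat_lit 4, nat_lit 5, nat_lit 7, nat_lit 3, nat_lit 2, nat_lit 4, nat_lit 7, nat_lit 3, nat_lit 6, nat_lit 5, nat_lit 7, nat_lit 6, nat_lit 4, nat_lit 2, nat_lit 3, nat_lit 7, nat_lit 6, nat_lit 5, nat_lit 4, nat_lit 2, nat_lit 3, nat_lit 4, nat_lit 5, nat_lit 6, nat_lit 0, nat_lit 4, nat_lit 5, nat_lit 8, nat_lit 3, nat_lit 2, nat_lit 4, nat_lit 1, nat_lit 2, nat_lit 3, nat_lit 7, nat_lit 1, nat_lit 0, nat_lit 3, nat_lit 4, nat_lit 1, nat_lit 2, nat_lit 3, nat_lit 4, nat_lit 5, nat_lit 7, nat_lit 1, nat_lit 2, nat_lit 3, nat_lit 7, nat_lit 1, nat_lit 2, nat_lit 0, nat_lit 1, nat_lit 8, nat_lit 2, nat_lit 3, nat_lit 4, nat_lit 3, nat_lit 2, nat_lit 4, nat_lit 5, nat_lit 6, nat_lit 4, nat_lit 3, nat_lit 7, nat_lit 5, nat_lit 3, nat_lit 4, nat_lit 2, nat_lit 3, nat_lit 7,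 nat_lit 4, nat_lit 8, nat_lit 7, nat_lit 3, nat_lit 2, nat_lit 4, nat_lit 8, nat_lit 7, nat_lit 8, nat_lit 5, nat_lit 7, nat_lit 3, nat_lit 2, nat_lit 4, nat_lit 7, nat_lit 3, nat_lit 6, nat_lit 5, nat_lit 7, nat_lit 6, nat_lit 4, nat_lit 2, nat_lit 3, nat_lit 7, nat_lit 4, nat_lit 3, nat_lit 0],
  [nat_lit 6, nat_lit 3, nat_lit 8, nat_lit 3, nat_lit 2, nat_lit 7, nat_lit 3, nat_lit 4, nat_lit 5, nat_lit 3, nat_lit 7, nat_lit 2, nat_lit 3, nat_lit 4, nat_lit 6, nat_lit 5, nat_lit 4, nat_lit 8, nat_lit 1, nat_lit 0, nat_lit 2, nat_lit 3, nat_lit 4, nat_lit 1, nat_lit 2, nat_lit 0, nat_lit 3, nat_lit 7, nat_lit 8, nat_lit 1, nat_lit 3, nat_lit 2, nat_lit 1, nat_lit 4, nat_lit 3, nat_lit 2, nat_lit 0, nat_lit 1, nat_lit 4, nat_lit 5, nat_lit 6, nat_lit 4, nat_lit 3, nat_lit 2, nat_lit 4, nat_lit 5, nat_lit 6, nat_lit 4, nat_lit 3, nat_lit 7, nat_lit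 5, nat_lit 3, nat_lit 4, nat_lit 2, nat_lit 3, nat_lit 2, nat_lit 1, nat_lit 2, nat_lit 3, nat_lit 4, nat_lit 5, nat_lit 7, nat_lit 1, nat_lit 2, nat_lit 0, nat_lit 3, nat_lit 7, nat_lit 8, nat_lit 1, nat_lit 2, nat_lit 3, nat_lit 4, nat_lit 5, nat_lit 7, nat_lit 1, nat_lit 2, nat_lit 3, nat_lit 4, nat_lit 3, nat_lit 7, nat_lit 8, nat_lit 7, nat_lit 3, nat_lit 4, nat_lit 3, nat_lit 2, nat_lit 0, nat_lit 1, nat_lit 3, nat_lit 4, nat_lit 5, nat_lit 3, nat_lit 2, nat_lit 7, nat_lit 1, nat_lit 0, nat_lit 2, nat_lit 3, nat_lit 4, nat_lit 1, nat_lit 2, nat_lit 3, nat_lit 2, nat_lit 7, nat_lit 8, nat_lit 7, nat_lit 6, nat_lit 4, nat_lit 3, nat_lit 1, nat_lit 2, nat_lit 0, nat_lit 1, nat_lit 4, nat_lit 3, nat_lit 2, nat_lit 0, nat_lit 1, nat_lit 5, nat_lit 7, nat_lit 3, nat_lit 4, nat_lit 5, nat_lit 6, nat_lit 5, nat_lit 3, nat_lit 7, nat_lit 3, nat_lit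 2, nat_lit 4, nat_lit 8, nat_lit 3, nat_lit 4, nat_lit 7, nat_lit 3, nat_lit 4, nat_lit 5, nat_lit 2, nat_lit 6, nat_lit 5, nat_lit 4, nat_lit 3, nat_lit 2, nat_lit 6, nat_lit 4, nat_lit 5, nat_lit 6, nat_lit 3, nat_lit 6, nat_lit 7, nat_lit 3, nat_lit 4, nat_lit 5, nat_lit 8, nat_lit 7, nat_lit 2, nat_lit 3, nat_lit 4, nat_lit 3],
  [nat_lit 8, nat_lit 1, nat_lit 2, nat_lit 3, nat_lit 4, nat_lit 7, nat_lit 1, nat_lit 0, nat_lit 2, nat_lit 3, nat_lit 4, nat_lit 1, nat_lit 2, nat_lit 3, nat_lit 4, nat_lit 5, nat_lit 7, nat_lit 1, nat_lit 2, nat_lit 3, nat_lit 2, nat_lit 1, nat_lit 0, nat_lit 1, nat_lit 0, nat_lit 4, nat_lit 3, nat_lit 2, nat_lit 6, nat_lit 1, nat_lit 0, nat_lit 2, nat_lit 3, nat_lit 4, nat_lit 1, nat_lit 0, nat_lit 2, nat_lit 3, nat_lit 1, nat_lit 2, nat_lit 8, nat_lit 7, nat_lit 3, nat_lit 0, nat_lit 2, nat_lit 1, nat_lit 4,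 nat_lit 3, nat_lit 2, nat_lit 0, nat_lit 1, nat_lit 8, nat_lit 5, nat_lit 6, nat_lit 4, nat_lit 5, nat_lit 3, nat_lit 7, nat_lit 8, nat_lit 3, nat_lit 2, nat_lit 7, nat_lit 3, nat_lit 4, nat_lit 3, nat_lit 7, nat_lit 2, nat_lit 3, nat_lit 5, nat_lit 7, nat_lit 6, nat_lit 5, nat_lit 4, nat_lit 3, nat_lit 2, nat_lit 4, nat_lit 5, nat_lit 6, nat_lit 4, nat_lit 3, nat_lit 7, nat_lit 4, nat_lit 3, nat_lit 2, nat_lit 8, nat_lit 3, nat_lit 4, nat_lit 7, nat_lit 3, nat_lit 4, nat_lit 5, nat_lit 2, nat_lit 6, nat_lit 5, nat_lit 4, nat_lit 0, nat_lit 6, nat_lit 8, nat_lit 1, nat_lit 2, nat_lit 3, nat_lit 4, nat_lit 1, nat_lit 0, nat_lit 2, nat_lit 1, nat_lit 2, nat_lit 3, nat_lit 4, nat_lit 8, nat_lit 7, nat_lit 3, nat_lit 0, nat_lit 2, nat_lit 1, nat_lit 4, nat_lit 3, nat_lit 2, nat_lit 0, nat_lit 1, nat_lit 2, nat_lit 4, nat_lit 5, nat_lit 6, nat_lit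 3, nat_lit 8, nat_lit 7, nat_lit 3, nat_lit 6, nat_lit 5, nat_lit 4, nat_lit 0],
  [nat_lit 1, nat_lit 2, nat_lit 7, nat_lit 3, nat_lit 4, nat_lit 5, nat_lit 3, nat_lit 7, nat_lit 2, nat_lit 3, nat_lit 8, nat_lit 7, nat_lit 3, nat_lit 4, nat_lit 5, nat_lit 3, nat_lit 7, nat_lit 8, nat_lit 2, nat_lit 3, nat_lit 4, nat_lit 7, nat_lit 3, nat_lit 6, nat_lit 5, nat_lit 4, nat_lit 3, nat_lit 2, nat_lit 8, nat_lit 7, nat_lit 3, nat_lit 5, nat_lit 7, nat_lit 6, nat_lit 5, nat_lit 4, nat_lit 0, nat_lit 1, nat_lit 0, nat_lit 2, nat_lit 3, nat_lit 1, nat_lit 2, nat_lit 7, nat_lit 3, nat_lit 2, nat_lit 1, nat_lit 4, nat_lit 3, nat_lit 2, nat_lit 1, nat_lit 7, nat_lit 3, nat_lit 2, nat_lit 0, nat_lit 1, nat_lit 4, nat_lit 5, nat_lit 6, nat_lit 0, nat_lit 5, nat_lit 4, nat_lit 3, nat_lit 6, nat_lit 8, nat_lit 7, nat_lit 8, nat_lit 5, nat_lit 4, nat_lit 5,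 nat_lit 6, nat_lit 3, nat_lit 4, nat_lit 5, nat_lit 7, nat_lit 0, nat_lit 3, nat_lit 4, nat_lit 5, nat_lit 8, nat_lit 7, nat_lit 3, nat_lit 2, nat_lit 1, nat_lit 7, nat_lit 3, nat_lit 2, nat_lit 1, nat_lit 4, nat_lit 3, nat_lit 2, nat_lit 1, nat_lit 4, nat_lit 3, nat_lit 7, nat_lit 8, nat_lit 7, nat_lit 3, nat_lit 4, nat_lit 2, nat_lit 1, nat_lit 7, nat_lit 3, nat_lit 2, nat_lit 1, nat_lit 3, nat_lit 2, nat_lit 7, nat_lit 8, nat_lit 5, nat_lit 4, nat_lit 3, nat_lit 7, nat_lit 6, nat_lit 3, nat_lit 6, nat_lit 5, nat_lit 4, nat_lit 2, nat_lit 3, nat_lit 4, nat_lit 5, nat_lit 6, nat_lit 7, nat_lit 5, nat_lit 4, nat_lit 3, nat_lit 2, nat_lit 1, nat_lit 0, nat_lit 3, nat_lit 2, nat_lit 7],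
  [nat_lit 8, nat_lit 4, nat_lit 5, nat_lit 0, nat_lit 6, nat_lit 5, nat_lit 6, nat_lit 3, nat_lit 4, nat_lit 5, nat_lit 6, nat_lit 3, nat_lit 2, nat_lit 4, nat_lit 3, nat_lit 7, nat_lit 4, nat_lit 3, nat_lit 2, nat_lit 8, nat_lit 3, nat_lit 4, nat_lit 7, nat_lit 3, nat_lit 4, nat_lit 5, nat_lit 6, nat_lit 5, nat_lit 7, nat_lit 4, nat_lit 2, nat_lit 3, nat_lit 4, nat_lit 5, nat_lit 6, nat_lit 7, nat_lit 1, nat_lit 0, nat_lit 2, nat_lit 3, nat_lit 7, nat_lit 1, nat_lit 2, nat_lit 3, nat_lit 4, nat_lit 5, nat_lit 7, nat_lit 3, nat_lit 2, nat_lit 1, nat_lit 7, nat_lit 3, nat_lit 2, nat_lit 0, nat_lit 1, nat_lit 3, nat_lit 4, nat_lit 3, nat_lit 7, nat_lit 0, nat_lit 3, nat_lit 2, nat_lit 3, nat_lit 6, nat_lit 1, nat_lit 0, nat_lit 2, nat_lit 3, nat_lit 4, nat_lit 1, nat_lit 0, nat_lit 2, nat_lit 1, nat_lit 3, nat_lit 8, nat_lit 7, nat_lit 3, nat_lit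 0, nat_lit 2, nat_lit 1, nat_lit 4, nat_lit 3, nat_lit 2, nat_lit 0, nat_lit 1, nat_lit 2, nat_lit 8, nat_lit 4, nat_lit 7, nat_lit 3, nat_lit 5, nat_lit 4, nat_lit 3, nat_lit 0, nat_lit 7, nat_lit 3, nat_lit 4, nat_lit 5, nat_lit 6, nat_lit 5, nat_lit 4, nat_lit 6, nat_lit 8, nat_lit 2, nat_lit 3, nat_lit 4, nat_lit 7, nat_lit 8, nat_lit 3, nat_lit 7, nat_lit 4, nat_lit 3, nat_lit 2, nat_lit 6, nat_lit 3, nat_lit 4, nat_lit 5, nat_lit 7, nat_lit 8, nat_lit 6, nat_lit 3, nat_lit 4, nat_lit 7, nat_lit 2, nat_lit 3, nat_lit 4, nat_lit 5, nat_lit 4, nat_lit 5, nat_lit 6, nat_lit 5, nat_lit 4],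
  [nat_lit 6, nat_lit 8, nat_lit 2, nat_lit 3, nat_lit 2, nat_lit 7, nat_lit 8, nat_lit 5, nat_lit 4, nat_lit 7, nat_lit 6, nat_lit 3, nat_lit 8, nat_lit 7, nat_lit 8, nat_lit 4, nat_lit 2, nat_lit 3, nat_lit 7, nat_lit 8, nat_lit 4, nat_lit 7, nat_lit 8, nat_lit 1, nat_lit 0, nat_lit 2, nat_lit 3, nat_lit 7, nat_lit 1, nat_lit 2, nat_lit 3, nat_lit 4, nat_lit 3, nat_lit 2, nat_lit 1, nat_lit 2, nat_lit 0, nat_lit 1, nat_lit 7, nat_lit 3, nat_lit 2, nat_lit 1, nat_lit 7, nat_lit 5, nat_lit 6, nat_lit 3],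
  [nat_lit 0, nat_lit 7, nat_lit 4, nat_lit 6, nat_lit 2, nat_lit 8, nat_lit 7, nat_lit 3, nat_lit 4, nat_lit 5, nat_lit 3, nat_lit 7, nat_lit 8, nat_lit 7, nat_lit 4, nat_lit 6, nat_lit 5, nat_lit 0, nat_lit 3, nat_lit 7, nat_lit 1, nat_lit 2, nat_lit 3, nat_lit 7, nat_lit 1, nat_lit 0, nat_lit 2, nat_lit 1, nat_lit 2, nat_lit 3, nat_lit 4, nat_lit 3, nat_lit 2, nat_lit 1, nat_lit 7, nat_lit 3, nat_lit 2, nat_lit 0, nat_lit 1, nat_lit 5, nat_lit 6, nat_lit 4, nat_lit 3, nat_lit 4, nat_lit 7, nat_lit 3, nat_lit 7, nat_lit 8, nat_lit 2, nat_lit 3, nat_lit 7, nat_lit 3, nat_lit 4, nat_lit 3, nat_lit 2, nat_lit 4, nat_lit 3, nat_lit 2, nat_lit 5, nat_lit 4, nat_lit 8, nat_lit 7, nat_lit 3, nat_lit 0, nat_lit 1, nat_lit 0, nat_lit 2, nat_lit 3, nat_lit 7, nat_lit 1, nat_lit 2, nat_lit 3, nat_lit 4, nat_lit 3, nat_lit 2, nat_lit 1, nat_lit 7, nat_lit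 3, nat_lit 2, nat_lit 0, nat_lit 1, nat_lit 8, nat_lit 5, nat_lit 4, nat_lit 2, nat_lit 6, nat_lit 5, nat_lit 6, nat_lit 3, nat_lit 4, nat_lit 5, nat_lit 7, nat_lit 3, nat_lit 4, nat_lit 5, nat_lit 8, nat_lit 7, nat_lit 2, nat_lit 3, nat_lit 4, nat_lit 8, nat_lit 7, nat_lit 2, nat_lit 3, nat_lit 7, nat_lit 8, nat_lit 4, nat_lit 1, nat_lit 0, nat_lit 2, nat_lit 3, nat_lit 4, nat_lit 1, nat_lit 2, nat_lit 3, nat_lit 8, nat_lit 7, nat_lit 3, nat_lit 2, nat_lit 1, nat_lit 4, nat_lit 3, nat_lit 2, nat_lit 0, nat_lit 1, nat_lit 0, nat_lit 3, nat_lit 6, nat_lit 7],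
  [nat_lit 7, nat_lit 4, nat_lit 6, nat_lit 5, nat_lit 3, nat_lit 7, nat_lit 1, nat_lit 2, nat_lit 0, nat_lit 3, nat_lit 7, nat_lit 8, nat_lit 2, nat_lit 3, nat_lit 7, nat_lit 1, nat_lit 2, nat_lit 4, nat_lit 3, nat_lit 7, nat_lit 8, nat_lit 7, nat_lit 3, nat_lit 4, nat_lit 3, nat_lit 2, nat_lit 1, nat_lit 4, nat_lit 3, nat_lit 2, nat_lit 0, nat_lit 1, nat_lit 3, nat_lit 0, nat_lit 5, nat_lit 6, nat_lit 4, nat_lit 3, nat_lit 8, nat_lit 7, nat_lit 4, nat_lit 3, nat_lit 2, nat_lit 8, nat_lit 6, nat_lit 3, nat_lit 6, nat_lit 5, nat_lit 4, nat_lit 3, nat_lit 2, nat_lit 4, nat_lit 7, nat_lit 5, nat_lit 6],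
  [nat_lit 8, nat_lit 2, nat_lit 4, nat_lit 5, nat_lit 6, nat_lit 5, nat_lit 4, nat_lit 3, nat_lit 7, nat_lit 0, nat_lit 3, nat_lit 4, nat_lit 5, nat_lit 8, nat_lit 7, nat_lit 3, nat_lit 4, nat_lit 5, nat_lit 8, nat_lit 0, nat_lit 3, nat_lit 2, nat_lit 6, nat_lit 3, nat_lit 4, nat_lit 1, nat_lit 0, nat_lit 2, nat_lit 3, nat_lit 7, nat_lit 1, nat_lit 2, nat_lit 3, nat_lit 4, nat_lit 5, nat_lit 7, nat_lit 3, nat_lit 2, nat_lit 1, nat_lit 7, nat_lit 3, nat_lit 2, nat_lit 0, nat_lit 1, nat_lit 7, nat_lit 3, nat_lit 4, nat_lit 3, nat_lit 5, nat_lit 4, nat_lit 0, nat_lit 7, nat_lit 2, nat_lit 3, nat_lit 7, nat_lit 8, nat_lit 6, nat_lit 0],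
  [nat_lit 8, nat_lit 6, nat_lit 4, nat_lit 5, nat_lit 7, nat_lit 3, nat_lit 4, nat_lit 5, nat_lit 6, nat_lit 5, nat_lit 4, nat_lit 3, nat_lit 0, nat_lit 4, nat_lit 8, nat_lit 3, nat_lit 4, nat_lit 6, nat_lit 8, nat_lit 6, nat_lit 5, nat_lit 4, nat_lit 1, nat_lit 0, nat_lit 2, nat_lit 3, nat_lit 7, nat_lit 1, nat_lit 2, nat_lit 3, nat_lit 4, nat_lit 5, nat_lit 7, nat_lit 3, nat_lit 2, nat_lit 1, nat_lit 7, nat_lit 3, nat_lit 2, nat_lit 0, nat_lit 1, nat_lit 7, nat_lit 2, nat_lit 3, nat_lit 4, nat_lit 6, nat_lit 5, nat_lit 4, nat_lit 2, nat_lit 3, nat_lit 4, nat_lit 1, nat_lit 0, nat_lit 2, nat_lit 3, nat_lit 1, nat_lit 2, nat_lit 4, nat_lit 3, nat_lit 7, nat_lit 8, nat_lit 7, nat_lit 3, nat_lit 4, nat_lit 1, nat_lit 2, nat_lit 0, nat_lit 1, nat_lit 3, nat_lit 2, nat_lit 0, nat_lit 1, nat_lit 7, nat_lit 8, nat_lit 3, nat_lit 4, nat_lit 3, nat_lit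 5, nat_lit 7, nat_lit 0, nat_lit 3, nat_lit 4, nat_lit 3, nat_lit 2, nat_lit 5, nat_lit 7, nat_lit 3, nat_lit 4, nat_lit 5, nat_lit 6, nat_lit 5, nat_lit 4, nat_lit 3, nat_lit 4, nat_lit 3, nat_lit 2, nat_lit 6, nat_lit 3, nat_lit 4, nat_lit 5, nat_lit 7, nat_lit 8, nat_lit 6, nat_lit 3, nat_lit 4, nat_lit 7, nat_lit 2, nat_lit 3, nat_lit 4, nat_lit 1, nat_lit 0, nat_lit 2, nat_lit 3, nat_lit 7, nat_lit 1, nat_lit 2, nat_lit 3, nat_lit 7, nat_lit 5, nat_lit 4, nat_lit 3, nat_lit 2, nat_lit 1, nat_lit 7, nat_lit 3, nat_lit 2, nat_lit 0, nat_lit 1, nat_lit 4, nat_lit 5, nat_lit 3, nat_lit 2, nat_lit 8, nat_lit 2, nat_lit 4, nat_lit 5, nat_lit 6, nat_lit 3, nat_lit 2, nat_lit 7, nat_lit 3, nat_lit 2, nat_lit 4, nat_lit 3],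
  [nat_lit 6, nat_lit 5, nat_lit 2, nat_lit 4, nat_lit 5, nat_lit 6, nat_lit 8, nat_lit 7, nat_lit 5, nat_lit 3, nat_lit 4, nat_lit 1, nat_lit 0, nat_lit 2, nat_lit 3, nat_lit 7, nat_lit 1, nat_lit 2, nat_lit 3, nat_lit 7, nat_lit 5, nat_lit 4, nat_lit 3, nat_lit 2, nat_lit 1, nat_lit 7, nat_lit 3, nat_lit 2, nat_lit 0, nat_lit 1, nat_lit 7, nat_lit 8, nat_lit 6, nat_lit 4, nat_lit 5, nat_lit 6, nat_lit 4, nat_lit 8, nat_lit 7, nat_lit 3, nat_lit 5, nat_lit 4, nat_lit 3, nat_lit 7, nat_lit 8, nat_lit 6, nat_lit 5, nat_lit 8, nat_lit 1, nat_lit 0, nat_lit 2, nat_lit 3, nat_lit 4, nat_lit 1, nat_lit 2, nat_lit 0, nat_lit 3, nat_lit 7, nat_lit 8, nat_lit 2, nat_lit 1, nat_lit 3, nat_lit 2, nat_lit 0, nat_lit 1, nat_lit 4, nat_lit 3, nat_lit 2, nat_lit 0, nat_lit 2, nat_lit 0, nat_lit 3, nat_lit 7, nat_lit 8, nat_lit 3, nat_lit 2, nat_lit 4, nat_lit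 5, nat_lit 3, nat_lit 2, nat_lit 4, nat_lit 3, nat_lit 1, nat_lit 2, nat_lit 3, nat_lit 7, nat_lit 1, nat_lit 0, nat_lit 2, nat_lit 4, nat_lit 3, nat_lit 7, nat_lit 8, nat_lit 7, nat_lit 3, nat_lit 4, nat_lit 2, nat_lit 1, nat_lit 7, nat_lit 5, nat_lit 4, nat_lit 3, nat_lit 2, nat_lit 1, nat_lit 7, nat_lit 8, nat_lit 4, nat_lit 5, nat_lit 6, nat_lit 7, nat_lit 3, nat_lit 4, nat_lit 3, nat_lit 1, nat_lit 0, nat_lit 2, nat_lit 3, nat_lit 7, nat_lit 1, nat_lit 2, nat_lit 3, nat_lit 7, nat_lit 5, nat_lit 4, nat_lit 7, nat_lit 5, nat_lit 4, nat_lit 3, nat_lit 2, nat_lit 1, nat_lit 7, nat_lit 3, nat_lit 2, nat_lit 0, nat_lit 1, nat_lit 7, nat_lit 8, nat_lit 4, nat_lit 5, nat_lit 6, nat_lit 3],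
  [nat_lit 4, nat_lit 0, nat_lit 8, nat_lit 7, nat_lit 8, nat_lit 2, nat_lit 3, nat_lit 4, nat_lit 5, nat_lit 6, nat_lit 3, nat_lit 7, nat_lit 4, nat_lit 3, nat_lit 4, nat_lit 8, nat_lit 7, nat_lit 2, nat_lit 3, nat_lit 7, nat_lit 8, nat_lit 4, nat_lit 0, nat_lit 6, nat_lit 1, nat_lit 0, nat_lit 2, nat_lit 3, nat_lit 7, nat_lit 2, nat_lit 1, nat_lit 5, nat_lit 2, nat_lit 3, nat_lit 4, nat_lit 7, nat_lit 3, nat_lit 2, nat_lit 1, nat_lit 7, nat_lit 3, nat_lit 2, nat_lit 0, nat_lit 1, nat_lit 5, nat_lit 6, nat_lit 2, nat_lit 7, nat_lit 3, nat_lit 5, nat_lit 4, nat_lit 3, nat_lit 7, nat_lit 2, nat_lit 3, nat_lit 5, nat_lit 7, nat_lit 4, nat_lit 3, nat_lit 7, nat_lit 8, nat_lit 7, nat_lit 3, nat_lit 4, nat_lit 6, nat_lit 5, nat_lit 7, nat_lit 4, nat_lit 2, nat_lit 3, nat_lit 4, nat_lit 1, nat_lit 0, nat_lit 2, nat_lit 3, nat_lit 1, nat_lit 2, nat_lit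 4, nat_lit 3, nat_lit 7, nat_lit 8, nat_lit 7, nat_lit 3, nat_lit 4, nat_lit 1, nat_lit 2, nat_lit 0, nat_lit 1, nat_lit 3, nat_lit 2, nat_lit 0, nat_lit 1],
  [nat_lit 6, nat_lit 5, nat_lit 3, nat_lit 6, nat_lit 5, nat_lit 6, nat_lit 3, nat_lit 4, nat_lit 5, nat_lit 6, nat_lit 3, nat_lit 2, nat_lit 4, nat_lit 3, nat_lit 7, nat_lit 4, nat_lit 3, nat_lit 2, nat_lit 8, nat_lit 3, nat_lit 4, nat_lit 7, nat_lit 3, nat_lit 4, nat_lit 5, nat_lit 6, nat_lit 5, nat_lit 7, nat_lit 4, nat_lit 2, nat_lit 3, nat_lit 4, nat_lit 5, nat_lit 6, nat_lit 7, nat_lit 1, nat_lit 0, nat_lit 2, nat_lit 3, nat_lit 7, nat_lit 1, nat_lit 2, nat_lit 3, nat_lit 4, nat_lit 5, nat_lit 7, nat_lit 3, nat_lit 2, nat_lit 1, nat_lit 7, nat_lit 3, nat_lit 2, nat_lit 0, nat_lit 1, nat_lit 3, nat_lit 4, nat_lit 3, nat_lit 7, nat_lit 0, nat_lit 3, nat_lit 2, nat_lit 3, nat_lit 6,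 nat_lit 1, nat_lit 0, nat_lit 2, nat_lit 3, nat_lit 4, nat_lit 1, nat_lit 0, nat_lit 2, nat_lit 1, nat_lit 3, nat_lit 8, nat_lit 7, nat_lit 3, nat_lit 0, nat_lit 2, nat_lit 1, nat_lit 4, nat_lit 3, nat_lit 2, nat_lit 0, nat_lit 1, nat_lit 2, nat_lit 8, nat_lit 4, nat_lit 7, nat_lit 3, nat_lit 5, nat_lit 4, nat_lit 3, nat_lit 0, nat_lit 7, nat_lit 3, nat_lit 4, nat_lit 5, nat_lit 6, nat_lit 5, nat_lit 4, nat_lit 3, nat_lit 7, nat_lit 3, nat_lit 6, nat_lit 8, nat_lit 2, nat_lit 3, nat_lit 4, nat_lit 7, nat_lit 8, nat_lit 3, nat_lit 7, nat_lit 4, nat_lit 5, nat_lit 3, nat_lit 7, nat_lit 8, nat_lit 2, nat_lit 3, nat_lit 4, nat_lit 5, nat_lit 6, nat_lit 3, nat_lit 7, nat_lit 4, nat_lit 8, nat_lit 7, nat_lit 3],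
  [nat_lit 7, nat_lit 5, nat_lit 6, nat_lit 5, nat_lit 4, nat_lit 3, nat_lit 8, nat_lit 7, nat_lit 6, nat_lit 5, nat_lit 4, nat_lit 8, nat_lit 7, nat_lit 1, nat_lit 0, nat_lit 2, nat_lit 3, nat_lit 7, nat_lit 1, nat_lit 2, nat_lit 3, nat_lit 4, nat_lit 5, nat_lit 7, nat_lit 3, nat_lit 2, nat_lit 1, nat_lit 7, nat_lit 3, nat_lit 2, nat_lit 0, nat_lit 1, nat_lit 8, nat_lit 6, nat_lit 4, nat_lit 0, nat_lit 3, nat_lit 2, nat_lit 7, nat_lit 8, nat_lit 5, nat_lit 4, nat_lit 7, nat_lit 6, nat_lit 3, nat_lit 8, nat_lit 7, nat_lit 8, nat_lit 4, nat_lit 2, nat_lit 3, nat_lit 7, nat_lit 8, nat_lit 4, nat_lit 3, nat_lit 4, nat_lit 5, nat_lit 6, nat_lit 5, nat_lit 4, nat_lit 3, nat_lit 0, nat_lit 3, nat_lit 4, nat_lit 5, nat_lit 8, nat_lit 7, nat_lit 3, nat_lit 4, nat_lit 5, nat_lit 8, nat_lit 0, nat_lit 3, nat_lit 2, nat_lit 6, nat_lit 3, nat_lit 4, nat_lit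 3, nat_lit 5, nat_lit 6, nat_lit 8, nat_lit 2, nat_lit 3, nat_lit 4, nat_lit 1, nat_lit 0, nat_lit 2, nat_lit 3, nat_lit 7, nat_lit 1, nat_lit 2, nat_lit 3, nat_lit 4, nat_lit 5, nat_lit 7, nat_lit 3, nat_lit 2, nat_lit 1, nat_lit 7, nat_lit 3, nat_lit 2, nat_lit 0, nat_lit 1, nat_lit 4, nat_lit 3, nat_lit 5, nat_lit 8, nat_lit 6, nat_lit 5, nat_lit 8, nat_lit 7, nat_lit 3, nat_lit 4, nat_lit 8, nat_lit 7, nat_lit 8, nat_lit 6, nat_lit 5, nat_lit 4, nat_lit 3, nat_lit 2, nat_lit 6, nat_lit 4, nat_lit 5, nat_lit 6],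
  [nat_lit 7, nat_lit 6, nat_lit 4, nat_lit 5, nat_lit 6, nat_lit 8, nat_lit 5, nat_lit 3, nat_lit 4, nat_lit 1, nat_lit 0, nat_lit 2, nat_lit 3, nat_lit 7, nat_lit 1, nat_lit 2, nat_lit 3, nat_lit 7, nat_lit 5, nat_lit 4, nat_lit 3, nat_lit 2, nat_lit 1, nat_lit 7, nat_lit 3, nat_lit 2, nat_lit 0, nat_lit 1, nat_lit 4, nat_lit 3, nat_lit 2, nat_lit 8, nat_lit 6, nat_lit 5, nat_lit 3, nat_lit 4, nat_lit 3, nat_lit 6, nat_lit 2, nat_lit 3, nat_lit 0, nat_lit 8, nat_lit 5, nat_lit 4, nat_lit 3, nat_lit 7, nat_lit 8, nat_lit 5, nat_lit 4, nat_lit 3, nat_lit 0, nat_lit 4, nat_lit 6, nat_lit 5, nat_lit 0, nat_lit 3, nat_lit 7, nat_lit 1, nat_lit 0, nat_lit 2, nat_lit 3, nat_lit 4, nat_lit 1, nat_lit 0, nat_lit 2, nat_lit 3, nat_lit 7, nat_lit 1, nat_lit 2, nat_lit 3, nat_lit 2, nat_lit 1, nat_lit 4, nat_lit 3, nat_lit 2, nat_lit 0, nat_lit 1, nat_lit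 3, nat_lit 4, nat_lit 5, nat_lit 6, nat_lit 4, nat_lit 7, nat_lit 3, nat_lit 4, nat_lit 5, nat_lit 6, nat_lit 5, nat_lit 4, nat_lit 3, nat_lit 6, nat_lit 8, nat_lit 7, nat_lit 3, nat_lit 6, nat_lit 4, nat_lit 2, nat_lit 3, nat_lit 8, nat_lit 5, nat_lit 4, nat_lit 2, nat_lit 3, nat_lit 7, nat_lit 8, nat_lit 1, nat_lit 2, nat_lit 0, nat_lit 3, nat_lit 7, nat_lit 8, nat_lit 1, nat_lit 2, nat_lit 3, nat_lit 7, nat_lit 2, nat_lit 0, nat_lit 1, nat_lit 4, nat_lit 5, nat_lit 6, nat_lit 4, nat_lit 3, nat_lit 2, nat_lit 0, nat_lit 1, nat_lit 7, nat_lit 3, nat_lit 2, nat_lit 1, nat_lit 8, nat_lit 7, nat_lit 3, nat_lit 0, nat_lit 2, nat_lit 1],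
  [nat_lit 2, nat_lit 3, nat_lit 2, nat_lit 6, nat_lit 8, nat_lit 1, nat_lit 0, nat_lit 2, nat_lit 3, nat_lit 7, nat_lit 1, nat_lit 2, nat_lit 3, nat_lit 4, nat_lit 3, nat_lit 2, nat_lit 1, nat_lit 7, nat_lit 3, nat_lit 2, nat_lit 0, nat_lit 1, nat_lit 6, nat_lit 5, nat_lit 4, nat_lit 8, nat_lit 7, nat_lit 3, nat_lit 0, nat_lit 1, nat_lit 0, nat_lit 2, nat_lit 3, nat_lit 7, nat_lit 1, nat_lit 2, nat_lit 3, nat_lit 4, nat_lit 3, nat_lit 2, nat_lit 1, nat_lit 7, nat_lit 3, nat_lit 2, nat_lit 0, nat_lit 1, nat_lit 6, nat_lit 5, nat_lit 4, nat_lit 8, nat_lit 1, nat_lit 2, nat_lit 3, nat_lit 7, nat_lit 1, nat_lit 0, nat_lit 2, nat_lit 1, nat_lit 2, nat_lit 3, nat_lit 4, nat_lit 3, nat_lit 2, nat_lit 1, nat_lit 7, nat_lit 3, nat_lit 2, nat_lit 0, nat_lit 1, nat_lit 3, nat_lit 2, nat_lit 4, nat_lit 5, nat_lit 6, nat_lit 4, nat_lit 3, nat_lit 7, nat_lit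 3, nat_lit 4, nat_lit 5, nat_lit 4, nat_lit 2, nat_lit 3],
  [nat_lit 5, nat_lit 6, nat_lit 5, nat_lit 8, nat_lit 1, nat_lit 2, nat_lit 3, nat_lit 7, nat_lit 4, nat_lit 3, nat_lit 2, nat_lit 5, nat_lit 1, nat_lit 0, nat_lit 2, nat_lit 3, nat_lit 1, nat_lit 2, nat_lit 3, nat_lit 4, nat_lit 7, nat_lit 5, nat_lit 4, nat_lit 3, nat_lit 2, nat_lit 1, nat_lit 8, nat_lit 7, nat_lit 2, nat_lit 3, nat_lit 8, nat_lit 7, nat_lit 1, nat_lit 0, nat_lit 2, nat_lit 3, nat_lit 4, nat_lit 1, nat_lit 0, nat_lit 2, nat_lit 1, nat_lit 3, nat_lit 8, nat_lit 7, nat_lit 3, nat_lit 0, nat_lit 2, nat_lit 1, nat_lit 4, nat_lit 3, nat_lit 2, nat_lit 0, nat_lit 1, nat_lit 0, nat_lit 6, nat_lit 4, nat_lit 5, nat_lit 8, nat_lit 2, nat_lit 3, nat_lit 7, nat_lit 8, nat_lit 6, nat_lit 0, nat_lit 3, nat_lit 4, nat_lit 2, nat_lit 3, nat_lit 7, nat_lit 2, nat_lit 3, nat_lit 6,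 nat_lit 5, nat_lit 4, nat_lit 5, nat_lit 6, nat_lit 3, nat_lit 2, nat_lit 7, nat_lit 3, nat_lit 4, nat_lit 3, nat_lit 7, nat_lit 2, nat_lit 3, nat_lit 8, nat_lit 3, nat_lit 4, nat_lit 5, nat_lit 7, nat_lit 3, nat_lit 4, nat_lit 3, nat_lit 6, nat_lit 5, nat_lit 7, nat_lit 8, nat_lit 4, nat_lit 3, nat_lit 0, nat_lit 1, nat_lit 0, nat_lit 2, nat_lit 3, nat_lit 1, nat_lit 2, nat_lit 4, nat_lit 3, nat_lit 7, nat_lit 8, nat_lit 7, nat_lit 3, nat_lit 4, nat_lit 1, nat_lit 2, nat_lit 0, nat_lit 1, nat_lit 3, nat_lit 2, nat_lit 0, nat_lit 1, nat_lit 4, nat_lit 3, nat_lit 2, nat_lit 7, nat_lit 0, nat_lit 3, nat_lit 4, nat_lit 3, nat_lit 6, nat_lit 8, nat_lit 7],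
  [nat_lit 2, nat_lit 4, nat_lit 8, nat_lit 7, nat_lit 3, nat_lit 2, nat_lit 7, nat_lit 8, nat_lit 4, nat_lit 3, nat_lit 4, nat_lit 5, nat_lit 6, nat_lit 5, nat_lit 4, nat_lit 3, nat_lit 7, nat_lit 3, nat_lit 2, nat_lit 7, nat_lit 8, nat_lit 5, nat_lit 4, nat_lit 3, nat_lit 7, nat_lit 6, nat_lit 3, nat_lit 4, nat_lit 5, nat_lit 8, nat_lit 1, nat_lit 0, nat_lit 2, nat_lit 3, nat_lit 7, nat_lit 1, nat_lit 2, nat_lit 3, nat_lit 4, nat_lit 3, nat_lit 2, nat_lit 1, nat_lit 7, nat_lit 3, nat_lit 2, nat_lit 0, nat_lit 1, nat_lit 0, nat_lit 3, nat_lit 7, nat_lit 8, nat_lit 4, nat_lit 5, nat_lit 2, nat_lit 3, nat_lit 4, nat_lit 6, nat_lit 5, nat_lit 4, nat_lit 3, nat_lit 2, nat_lit 4, nat_lit 7, nat_lit 4, nat_lit 3, nat_lit 2, nat_lit 6, nat_lit 4, nat_lit 5, nat_lit 6, nat_lit 4, nat_lit 8, nat_lit 7, nat_lit 3, nat_lit 4, nat_lit 8, nat_lit 3, nat_lit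 4, nat_lit 5, nat_lit 3, nat_lit 7, nat_lit 8, nat_lit 7, nat_lit 4, nat_lit 6, nat_lit 5, nat_lit 0, nat_lit 3, nat_lit 7, nat_lit 1, nat_lit 2, nat_lit 3, nat_lit 7, nat_lit 1, nat_lit 0, nat_lit 2, nat_lit 1, nat_lit 2, nat_lit 3, nat_lit 4, nat_lit 3, nat_lit 2, nat_lit 1, nat_lit 7, nat_lit 3, nat_lit 2, nat_lit 0, nat_lit 1, nat_lit 5, nat_lit 6, nat_lit 4, nat_lit 3, nat_lit 4, nat_lit 7, nat_lit 3, nat_lit 7, nat_lit 8, nat_lit 2, nat_lit 3, nat_lit 7, nat_lit 3, nat_lit 4, nat_lit 3],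
  [nat_lit 8, nat_lit 6, nat_lit 4, nat_lit 5, nat_lit 2, nat_lit 3, nat_lit 4, nat_lit 3, nat_lit 7, nat_lit 3, nat_lit 2, nat_lit 8, nat_lit 7, nat_lit 3, nat_lit 7, nat_lit 4, nat_lit 3, nat_lit 4, nat_lit 6, nat_lit 5, nat_lit 1, nat_lit 0, nat_lit 2, nat_lit 3, nat_lit 7, nat_lit 1, nat_lit 2, nat_lit 3, nat_lit 4, nat_lit 3, nat_lit 2, nat_lit 1, nat_lit 2, nat_lit 0, nat_lit 1, nat_lit 7, nat_lit 3, nat_lit 2, nat_lit 1, nat_lit 7, nat_lit 3, nat_lit 0, nat_lit 5, nat_lit 6, nat_lit 4, nat_lit 7, nat_lit 8, nat_lit 7, nat_lit 3, nat_lit 5, nat_lit 4, nat_lit 3, nat_lit 7, nat_lit 8, nat_lit 6, nat_lit 5, nat_lit 4, nat_lit 3, nat_lit 2, nat_lit 4, nat_lit 5, nat_lit 6, nat_lit 7, nat_lit 3, nat_lit 2, nat_lit 4, nat_lit 6, nat_lit 7, nat_lit 5, nat_lit 6, nat_lit 3, nat_lit 7, nat_lit 4, nat_lit 2, nat_lit 3, nat_lit 7, nat_lit 5, nat_lit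 7, nat_lit 4, nat_lit 3, nat_lit 5, nat_lit 4, nat_lit 0, nat_lit 5, nat_lit 2, nat_lit 3, nat_lit 4],
  [nat_lit 8, nat_lit 7, nat_lit 8, nat_lit 4, nat_lit 3, nat_lit 7, nat_lit 8, nat_lit 4, nat_lit 6, nat_lit 5, nat_lit 4, nat_lit 6, nat_lit 2, nat_lit 3, nat_lit 4, nat_lit 7, nat_lit 4, nat_lit 2, nat_lit 3, nat_lit 4, nat_lit 5, nat_lit 6, nat_lit 4, nat_lit 3, nat_lit 2, nat_lit 5, nat_lit 4, nat_lit 8, nat_lit 7, nat_lit 3, nat_lit 0, nat_lit 1, nat_lit 0, nat_lit 2, nat_lit 3, nat_lit 7, nat_lit 1, nat_lit 2, nat_lit 3, nat_lit 4, nat_lit 3, nat_lit 2, nat_lit 1, nat_lit 7, nat_lit 3, nat_lit 2, nat_lit 0, nat_lit 1, nat_lit 8, nat_lit 5, nat_lit 4, nat_lit 3, nat_lit 6, nat_lit 7, nat_lit 3, nat_lit 4, nat_lit 5, nat_lit 8, nat_lit 7, nat_lit 2, nat_lit 3, nat_lit 7, nat_lit 3, nat_lit 4, nat_lit 5, nat_lit 6, nat_lit 5, nat_lit 4,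 nat_lit 3, nat_lit 4, nat_lit 8, nat_lit 7, nat_lit 2, nat_lit 3, nat_lit 7, nat_lit 8, nat_lit 4, nat_lit 2, nat_lit 1, nat_lit 0, nat_lit 2, nat_lit 3, nat_lit 7, nat_lit 1, nat_lit 2, nat_lit 3, nat_lit 4, nat_lit 3, nat_lit 2, nat_lit 1, nat_lit 2, nat_lit 0, nat_lit 1, nat_lit 7, nat_lit 3, nat_lit 2, nat_lit 1, nat_lit 7, nat_lit 5, nat_lit 3, nat_lit 4, nat_lit 6, nat_lit 8, nat_lit 7, nat_lit 3, nat_lit 0, nat_lit 1, nat_lit 0, nat_lit 2, nat_lit 3, nat_lit 4, nat_lit 1, nat_lit 2, nat_lit 3, nat_lit 2, nat_lit 1, nat_lit 7, nat_lit 3, nat_lit 2, nat_lit 0, nat_lit 1, nat_lit 4, nat_lit 3, nat_lit 2, nat_lit 0, nat_lit 1, nat_lit 0, nat_lit 3, nat_lit 7, nat_lit 8, nat_lit 4, nat_lit 5, nat_lit 4, nat_lit 3, nat_lit 5, nat_lit 2, nat_lit 0, nat_lit 3, nat_lit 7, nat_lit 4, nat_lit 3, nat_lit 2, nat_lit 8, nat_lit 6, nat_lit 5, nat_lit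 4, nat_lit 0, nat_lit 3, nat_lit 7, nat_lit 2, nat_lit 3],
  [nat_lit 3, nat_lit 2, nat_lit 7, nat_lit 3, nat_lit 0, nat_lit 4, nat_lit 5, nat_lit 6, nat_lit 8, nat_lit 2, nat_lit 3, nat_lit 4, nat_lit 7, nat_lit 3, nat_lit 0, nat_lit 1, nat_lit 0, nat_lit 2, nat_lit 3, nat_lit 4, nat_lit 1, nat_lit 2, nat_lit 3, nat_lit 4, nat_lit 5, nat_lit 7, nat_lit 3, nat_lit 2, nat_lit 4, nat_lit 3, nat_lit 0, nat_lit 4, nat_lit 5, nat_lit 6, nat_lit 4, nat_lit 3, nat_lit 2, nat_lit 0, nat_lit 1, nat_lit 2, nat_lit 0, nat_lit 2, nat_lit 3, nat_lit 7, nat_lit 1, nat_lit 0, nat_lit 2, nat_lit 1, nat_lit 2, nat_lit 1, nat_lit 4, nat_lit 3, nat_lit 7, nat_lit 8, nat_lit 7, nat_lit 3, nat_lit 4, nat_lit 3, nat_lit 2, nat_lit 1, nat_lit 7, nat_lit 5, nat_lit 4, nat_lit 3, nat_lit 2, nat_lit 1, nat_lit 7, nat_lit 3, nat_lit 2, nat_lit 0, nat_lit 1, nat_lit 0,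 nat_lit 4, nat_lit 5, nat_lit 7, nat_lit 3, nat_lit 0, nat_lit 2],
  [nat_lit 4, nat_lit 2, nat_lit 0, nat_lit 6, nat_lit 1, nat_lit 2, nat_lit 3, nat_lit 7, nat_lit 1, nat_lit 0, nat_lit 2, nat_lit 1, nat_lit 0, nat_lit 3, nat_lit 4, nat_lit 2, nat_lit 3, nat_lit 7, nat_lit 5, nat_lit 4, nat_lit 3, nat_lit 2, nat_lit 1, nat_lit 7, nat_lit 5, nat_lit 3, nat_lit 7, nat_lit 8, nat_lit 7, nat_lit 3, nat_lit 4, nat_lit 2, nat_lit 1, nat_lit 7, nat_lit 3, nat_lit 2, nat_lit 8, nat_lit 7, nat_lit 3, nat_lit 0, nat_lit 2, nat_lit 1, nat_lit 4, nat_lit 5, nat_lit 3, nat_lit 4, nat_lit 7, nat_lit 8, nat_lit 6, nat_lit 4, nat_lit 2, nat_lit 7, nat_lit 8, nat_lit 7, nat_lit 3, nat_lit 5, nat_lit 4, nat_lit 3, nat_lit 7, nat_lit 8, nat_lit 3, nat_lit 2, nat_lit 7, nat_lit 3, nat_lit 5, nat_lit 4, nat_lit 3, nat_lit 7, nat_lit 2, nat_lit 3, nat_lit 4, nat_lit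 8, nat_lit 7, nat_lit 3, nat_lit 2, nat_lit 4, nat_lit 8, nat_lit 7, nat_lit 8, nat_lit 3, nat_lit 4, nat_lit 3, nat_lit 7, nat_lit 1, nat_lit 0, nat_lit 2, nat_lit 1, nat_lit 3, nat_lit 4, nat_lit 6, nat_lit 7, nat_lit 8, nat_lit 7, nat_lit 2, nat_lit 3, nat_lit 1, nat_lit 0, nat_lit 2, nat_lit 7, nat_lit 8, nat_lit 7, nat_lit 3, nat_lit 4, nat_lit 3, nat_lit 2, nat_lit 1, nat_lit 2, nat_lit 0, nat_lit 1],
  [nat_lit 6, nat_lit 5, nat_lit 4, nat_lit 3, nat_lit 8, nat_lit 7, nat_lit 6, nat_lit 5, nat_lit 4, nat_lit 8, nat_lit 7, nat_lit 1, nat_lit 0, nat_lit 2, nat_lit 3, nat_lit 7, nat_lit 1, nat_lit 2, nat_lit 3, nat_lit 4, nat_lit 5, nat_lit 7, nat_lit 3, nat_lit 2, nat_lit 1, nat_lit 7, nat_lit 3, nat_lit 2, nat_lit 0, nat_lit 1, nat_lit 8, nat_lit 6, nat_lit 4, nat_lit 0, nat_lit 3, nat_lit 2, nat_lit 7, nat_lit 8, nat_lit 5, nat_lit 4,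 nat_lit 7, nat_lit 6, nat_lit 3, nat_lit 8, nat_lit 7, nat_lit 8, nat_lit 4, nat_lit 2, nat_lit 3, nat_lit 7, nat_lit 8, nat_lit 4, nat_lit 3, nat_lit 4, nat_lit 5, nat_lit 6, nat_lit 5, nat_lit 4, nat_lit 3],
  [nat_lit 6, nat_lit 5, nat_lit 3, nat_lit 2, nat_lit 7, nat_lit 3, nat_lit 4, nat_lit 3, nat_lit 7, nat_lit 2, nat_lit 3, nat_lit 8, nat_lit 7, nat_lit 3, nat_lit 5, nat_lit 4, nat_lit 3, nat_lit 7, nat_lit 8, nat_lit 2, nat_lit 6, nat_lit 5, nat_lit 8, nat_lit 7, nat_lit 0, nat_lit 3, nat_lit 2, nat_lit 8, nat_lit 2, nat_lit 1, nat_lit 4, nat_lit 2, nat_lit 3, nat_lit 0, nat_lit 7, nat_lit 5, nat_lit 4, nat_lit 3, nat_lit 2, nat_lit 1, nat_lit 7, nat_lit 3, nat_lit 2, nat_lit 1, nat_lit 3, nat_lit 2, nat_lit 7, nat_lit 8, nat_lit 7, nat_lit 6, nat_lit 4, nat_lit 3, nat_lit 1, nat_lit 2, nat_lit 0, nat_lit 1, nat_lit 7, nat_lit 5, nat_lit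 4, nat_lit 3, nat_lit 2, nat_lit 1, nat_lit 7, nat_lit 3, nat_lit 2, nat_lit 0, nat_lit 1, nat_lit 3, nat_lit 4, nat_lit 3, nat_lit 2, nat_lit 5, nat_lit 4, nat_lit 3, nat_lit 7, nat_lit 4, nat_lit 3, nat_lit 8, nat_lit 2, nat_lit 3, nat_lit 4, nat_lit 7, nat_lit 3, nat_lit 4, nat_lit 5, nat_lit 6, nat_lit 4, nat_lit 8, nat_lit 7, nat_lit 3, nat_lit 5, nat_lit 4, nat_lit 3, nat_lit 7, nat_lit 8, nat_lit 5, nat_lit 2, nat_lit 3, nat_lit 4, nat_lit 0, nat_lit 4, nat_lit 5, nat_lit 3, nat_lit 4, nat_lit 3, nat_lit 7],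
  [nat_lit 0, nat_lit 3, nat_lit 2, nat_lit 7, nat_lit 3, nat_lit 1, nat_lit 0, nat_lit 2, nat_lit 3, nat_lit 4, nat_lit 2, nat_lit 3, nat_lit 8, nat_lit 6, nat_lit 5, nat_lit 4, nat_lit 2, nat_lit 1, nat_lit 7, nat_lit 3, nat_lit 2, nat_lit 0, nat_lit 1, nat_lit 3, nat_lit 2, nat_lit 0, nat_lit 1, nat_lit 7, nat_lit 5, nat_lit 4, nat_lit 3, nat_lit 2, nat_lit 1, nat_lit 5, nat_lit 3, nat_lit 6, nat_lit 7, nat_lit 3, nat_lit 4, nat_lit 5, nat_lit 8, nat_lit 7, nat_lit 2, nat_lit 3, nat_lit 7, nat_lit 2, nat_lit 3, nat_lit 0, nat_lit 4, nat_lit 6, nat_lit 5, nat_lit 8, nat_lit 0, nat_lit 3, nat_lit 4, nat_lit 1, nat_lit 0, nat_lit 2, nat_lit 3, nat_lit 7, nat_lit 1, nat_lit 2, nat_lit 3, nat_lit 7, nat_lit 5, nat_lit 4, nat_lit 3, nat_lit 2, nat_lit 1, nat_lit 7, nat_lit 3, nat_lit 2, nat_lit 0, nat_lit 1, nat_lit 7, nat_lit 3, nat_lit 4, nat_lit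 0, nat_lit 4, nat_lit 3, nat_lit 5, nat_lit 7, nat_lit 6, nat_lit 5, nat_lit 8, nat_lit 3, nat_lit 7, nat_lit 4, nat_lit 3, nat_lit 5, nat_lit 6, nat_lit 5, nat_lit 4, nat_lit 5, nat_lit 7, nat_lit 2, nat_lit 4, nat_lit 3, nat_lit 7, nat_lit 8, nat_lit 7, nat_lit 3, nat_lit 4, nat_lit 6, nat_lit 5, nat_lit 4, nat_lit 2, nat_lit 3, nat_lit 4, nat_lit 5, nat_lit 6, nat_lit 7, nat_lit 5],
  [nat_lit 3, nat_lit 2, nat_lit 7, nat_lit 3, nat_lit 4, nat_lit 5, nat_lit 3, nat_lit 7, nat_lit 2, nat_lit 3, nat_lit 4, nat_lit 6, nat_lit 5, nat_lit 4, nat_lit 8, nat_lit 1, nat_lit 0, nat_lit 2, nat_lit 3, nat_lit 4, nat_lit 1, nat_lit 2, nat_lit 0, nat_lit 3, nat_lit 7, nat_lit 8, nat_lit 1, nat_lit 3, nat_lit 2, nat_lit 1, nat_lit 4, nat_lit 3, nat_lit 2, nat_lit 0, nat_lit 1, nat_lit 4, nat_lit 5, nat_lit 6, nat_lit 4, nat_lit 3, nat_lit 2, nat_lit 4,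 nat_lit 5, nat_lit 6, nat_lit 4, nat_lit 3, nat_lit 7, nat_lit 5, nat_lit 3, nat_lit 4, nat_lit 2, nat_lit 3, nat_lit 2],
  [nat_lit 7, nat_lit 3, nat_lit 4, nat_lit 5, nat_lit 3, nat_lit 7, nat_lit 8, nat_lit 3, nat_lit 4, nat_lit 3, nat_lit 7, nat_lit 3, nat_lit 2, nat_lit 4, nat_lit 8, nat_lit 3, nat_lit 4, nat_lit 7, nat_lit 3, nat_lit 4, nat_lit 5, nat_lit 2, nat_lit 4, nat_lit 6, nat_lit 5, nat_lit 0, nat_lit 4, nat_lit 8, nat_lit 7, nat_lit 1, nat_lit 0, nat_lit 2, nat_lit 3, nat_lit 7, nat_lit 1, nat_lit 2, nat_lit 3, nat_lit 4, nat_lit 3, nat_lit 2, nat_lit 1, nat_lit 7, nat_lit 3, nat_lit 2, nat_lit 0, nat_lit 1, nat_lit 7, nat_lit 2, nat_lit 3, nat_lit 4, nat_lit 7, nat_lit 8, nat_lit 5, nat_lit 6, nat_lit 4, nat_lit 5, nat_lit 6, nat_lit 7, nat_lit 8, nat_lit 6, nat_lit 0, nat_lit 7, nat_lit 3, nat_lit 2, nat_lit 4, nat_lit 6, nat_lit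 7, nat_lit 5, nat_lit 6, nat_lit 3, nat_lit 7, nat_lit 4, nat_lit 2, nat_lit 3, nat_lit 7, nat_lit 5, nat_lit 8, nat_lit 7, nat_lit 3, nat_lit 4, nat_lit 5, nat_lit 3, nat_lit 7],
  [nat_lit 2, nat_lit 6, nat_lit 5, nat_lit 8, nat_lit 7, nat_lit 4, nat_lit 3, nat_lit 2, nat_lit 7, nat_lit 1, nat_lit 0, nat_lit 2, nat_lit 3, nat_lit 7, nat_lit 2, nat_lit 1, nat_lit 5, nat_lit 2, nat_lit 3, nat_lit 4, nat_lit 7, nat_lit 3, nat_lit 2, nat_lit 1, nat_lit 7, nat_lit 3, nat_lit 2, nat_lit 0, nat_lit 1, nat_lit 4, nat_lit 6, nat_lit 3, nat_lit 4, nat_lit 6, nat_lit 7, nat_lit 8, nat_lit 7, nat_lit 2, nat_lit 3, nat_lit 7, nat_lit 8, nat_lit 4, nat_lit 0, nat_lit 5, nat_lit 6, nat_lit 4, nat_lit 1, nat_lit 0, nat_lit 2, nat_lit 3, nat_lit 4, nat_lit 1, nat_lit 2, nat_lit 3, nat_lit 7, nat_lit 8, nat_lit 3, nat_lit 2, nat_lit 1, nat_lit 4, nat_lit 3,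 nat_lit 2, nat_lit 0, nat_lit 1, nat_lit 4, nat_lit 3, nat_lit 2, nat_lit 4, nat_lit 5, nat_lit 6, nat_lit 4, nat_lit 3, nat_lit 2, nat_lit 7, nat_lit 8, nat_lit 7, nat_lit 2, nat_lit 3, nat_lit 2, nat_lit 3, nat_lit 4, nat_lit 3, nat_lit 7, nat_lit 1, nat_lit 0, nat_lit 2, nat_lit 3, nat_lit 7, nat_lit 1, nat_lit 2, nat_lit 3, nat_lit 7, nat_lit 5, nat_lit 4, nat_lit 3, nat_lit 2, nat_lit 1, nat_lit 7, nat_lit 3, nat_lit 2, nat_lit 0, nat_lit 1, nat_lit 5, nat_lit 3, nat_lit 4],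
  [nat_lit 4, nat_lit 3, nat_lit 5, nat_lit 1, nat_lit 0, nat_lit 2, nat_lit 3, nat_lit 7, nat_lit 1, nat_lit 2, nat_lit 3, nat_lit 4, nat_lit 5, nat_lit 7, nat_lit 3, nat_lit 2, nat_lit 1, nat_lit 7, nat_lit 3, nat_lit 2, nat_lit 0, nat_lit 1, nat_lit 7, nat_lit 3, nat_lit 4, nat_lit 3, nat_lit 2, nat_lit 3, nat_lit 2, nat_lit 7, nat_lit 8, nat_lit 7, nat_lit 2, nat_lit 3, nat_lit 4, nat_lit 6, nat_lit 5, nat_lit 4, nat_lit 2, nat_lit 3, nat_lit 4, nat_lit 1, nat_lit 0, nat_lit 2, nat_lit 3, nat_lit 4, nat_lit 1, nat_lit 2, nat_lit 3, nat_lit 8, nat_lit 7, nat_lit 3, nat_lit 2, nat_lit 1, nat_lit 4, nat_lit 3, nat_lit 2, nat_lit 0, nat_lit 1, nat_lit 4, nat_lit 6, nat_lit 5, nat_lit 0, nat_lit 4, nat_lit 8, nat_lit 7, nat_lit 3, nat_lit 2, nat_lit 7, nat_lit 8, nat_lit 7, nat_lit 6, nat_lit 4, nat_lit 3, nat_lit 6, nat_lit 4, nat_lit 1, nat_lit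 0, nat_lit 2, nat_lit 3, nat_lit 7, nat_lit 1, nat_lit 2, nat_lit 3, nat_lit 7, nat_lit 4, nat_lit 3, nat_lit 2, nat_lit 5, nat_lit 1, nat_lit 2, nat_lit 7, nat_lit 3, nat_lit 2, nat_lit 0, nat_lit 1, nat_lit 7, nat_lit 2, nat_lit 3, nat_lit 4, nat_lit 7, nat_lit 8, nat_lit 5, nat_lit 6, nat_lit 2],
  [nat_lit 3, nat_lit 2, nat_lit 7, nat_lit 6, nat_lit 4, nat_lit 3, nat_lit 8, nat_lit 7, nat_lit 3, nat_lit 4, nat_lit 6, nat_lit 5, nat_lit 4, nat_lit 8, nat_lit 1, nat_lit 0, nat_lit 2, nat_lit 3, nat_lit 7, nat_lit 1, nat_lit 2, nat_lit 3, nat_lit 4, nat_lit 5, nat_lit 7, nat_lit 3, nat_lit 2, nat_lit 1, nat_lit 7, nat_lit 3, nat_lit 2, nat_lit 0, nat_lit 1, nat_lit 4, nat_lit 3, nat_lit 5, nat_lit 7, nat_lit 8, nat_lit 4, nat_lit 2, nat_lit 3, nat_lit 0, nat_lit 7, nat_lit 3, nat_lit 8, nat_lit 7, nat_lit 4, nat_lit 3, nat_lit 2, nat_lit 8,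 nat_lit 6, nat_lit 3, nat_lit 4, nat_lit 8, nat_lit 7, nat_lit 3, nat_lit 4, nat_lit 8, nat_lit 7, nat_lit 6, nat_lit 5, nat_lit 4, nat_lit 7, nat_lit 5, nat_lit 3, nat_lit 4, nat_lit 2, nat_lit 4, nat_lit 6, nat_lit 5, nat_lit 8, nat_lit 0, nat_lit 3, nat_lit 4, nat_lit 1, nat_lit 0, nat_lit 2, nat_lit 3, nat_lit 7, nat_lit 1, nat_lit 2, nat_lit 3, nat_lit 7, nat_lit 5, nat_lit 4, nat_lit 3, nat_lit 2, nat_lit 1, nat_lit 7, nat_lit 3, nat_lit 2, nat_lit 0, nat_lit 1, nat_lit 5, nat_lit 2, nat_lit 3, nat_lit 4, nat_lit 7, nat_lit 8, nat_lit 5, nat_lit 6, nat_lit 5, nat_lit 4, nat_lit 2],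
  [nat_lit 2, nat_lit 4, nat_lit 5, nat_lit 6, nat_lit 5, nat_lit 8, nat_lit 7, nat_lit 4, nat_lit 3, nat_lit 2, nat_lit 5, nat_lit 1, nat_lit 0, nat_lit 2, nat_lit 3, nat_lit 7, nat_lit 1, nat_lit 2, nat_lit 3, nat_lit 4, nat_lit 5, nat_lit 7, nat_lit 3, nat_lit 2, nat_lit 1, nat_lit 7, nat_lit 3, nat_lit 2, nat_lit 0, nat_lit 1, nat_lit 4, nat_lit 3, nat_lit 0, nat_lit 8, nat_lit 5, nat_lit 6, nat_lit 4, nat_lit 2, nat_lit 4, nat_lit 3, nat_lit 5, nat_lit 7, nat_lit 4, nat_lit 5, nat_lit 6, nat_lit 7, nat_lit 8, nat_lit 4, nat_lit 3, nat_lit 7, nat_lit 8, nat_lit 4, nat_lit 3, nat_lit 6, nat_lit 8, nat_lit 2, nat_lit 3, nat_lit 4, nat_lit 7, nat_lit 8, nat_lit 3, nat_lit 7, nat_lit 0, nat_lit 3, nat_lit 2, nat_lit 4, nat_lit 8, nat_lit 7, nat_lit 5, nat_lit 3, nat_lit 4, nat_lit 1, nat_lit 0, nat_lit 2, nat_lit 3, nat_lit 7, nat_lit 1, nat_lit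 2, nat_lit 3, nat_lit 7, nat_lit 5, nat_lit 4, nat_lit 3, nat_lit 2, nat_lit 1, nat_lit 7, nat_lit 3, nat_lit 2, nat_lit 0, nat_lit 1, nat_lit 8, nat_lit 4, nat_lit 5, nat_lit 6, nat_lit 4, nat_lit 3, nat_lit 7, nat_lit 8, nat_lit 3, nat_lit 4, nat_lit 6, nat_lit 7, nat_lit 2, nat_lit 3],
  [nat_lit 2, nat_lit 4, nat_lit 5, nat_lit 6, nat_lit 5, nat_lit 8, nat_lit 7, nat_lit 4, nat_lit 3, nat_lit 2, nat_lit 5, nat_lit 1, nat_lit 0, nat_lit 2, nat_lit 3, nat_lit 7, nat_lit 1, nat_lit 2, nat_lit 3, nat_lit 4, nat_lit 5, nat_lit 7, nat_lit 3, nat_lit 2, nat_lit 1, nat_lit 7, nat_lit 3, nat_lit 2, nat_lit 0, nat_lit 1, nat_lit 4, nat_lit 3, nat_lit 0, nat_lit 8, nat_lit 5, nat_lit 6, nat_lit 4, nat_lit 2, nat_lit 4, nat_lit 3, nat_lit 5, nat_lit 7, nat_lit 4, nat_lit 5, nat_lit 6, nat_lit 8, nat_lit 3, nat_lit 2, nat_lit 4, nat_lit 7, nat_lit 3,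 nat_lit 2, nat_lit 4, nat_lit 3, nat_lit 7, nat_lit 3, nat_lit 8, nat_lit 7, nat_lit 3, nat_lit 5, nat_lit 4, nat_lit 3, nat_lit 7, nat_lit 8, nat_lit 4, nat_lit 6, nat_lit 5, nat_lit 4, nat_lit 6, nat_lit 8, nat_lit 7, nat_lit 1, nat_lit 0, nat_lit 2, nat_lit 3, nat_lit 4, nat_lit 1, nat_lit 2, nat_lit 3, nat_lit 7, nat_lit 8, nat_lit 3, nat_lit 2, nat_lit 1, nat_lit 4, nat_lit 3, nat_lit 2, nat_lit 0, nat_lit 1, nat_lit 7, nat_lit 8, nat_lit 6, nat_lit 8, nat_lit 4, nat_lit 2, nat_lit 3, nat_lit 5, nat_lit 4, nat_lit 3, nat_lit 7, nat_lit 8, nat_lit 2, nat_lit 3],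
  [nat_lit 3, nat_lit 2, nat_lit 8, nat_lit 7, nat_lit 3, nat_lit 4, nat_lit 5, nat_lit 3, nat_lit 2, nat_lit 4, nat_lit 8, nat_lit 6, nat_lit 8, nat_lit 7, nat_lit 1, nat_lit 0, nat_lit 2, nat_lit 3, nat_lit 4, nat_lit 1, nat_lit 2, nat_lit 3, nat_lit 8, nat_lit 7, nat_lit 3, nat_lit 2, nat_lit 1, nat_lit 4, nat_lit 3, nat_lit 2, nat_lit 0, nat_lit 1, nat_lit 7, nat_lit 8, nat_lit 6, nat_lit 4, nat_lit 5, nat_lit 6, nat_lit 4, nat_lit 8, nat_lit 7, nat_lit 3, nat_lit 4, nat_lit 5, nat_lit 3, nat_lit 7, nat_lit 8, nat_lit 3, nat_lit 7, nat_lit 3, nat_lit 4, nat_lit 2, nat_lit 3, nat_lit 7, nat_lit 4, nat_lit 2, nat_lit 3, nat_lit 8, nat_lit 6, nat_lit 5, nat_lit 4, nat_lit 7, nat_lit 5, nat_lit 3, nat_lit 4, nat_lit 2, nat_lit 4, nat_lit 6, nat_lit 5, nat_lit 8, nat_lit 0, nat_lit 3, nat_lit 4, nat_lit 1, nat_lit 0, nat_lit 2, nat_lit 3, nat_lit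 7, nat_lit 1, nat_lit 2, nat_lit 3, nat_lit 7, nat_lit 5, nat_lit 4, nat_lit 3, nat_lit 2, nat_lit 1, nat_lit 7, nat_lit 3, nat_lit 2, nat_lit 0, nat_lit 1, nat_lit 5, nat_lit 2, nat_lit 3, nat_lit 4, nat_lit 7, nat_lit 8, nat_lit 5, nat_lit 6, nat_lit 5, nat_lit 4, nat_lit 2],
  [nat_lit 2, nat_lit 7, nat_lit 8, nat_lit 7, nat_lit 3, nat_lit 5, nat_lit 4, nat_lit 3, nat_lit 7, nat_lit 8, nat_lit 5, nat_lit 7, nat_lit 3, nat_lit 2, nat_lit 4, nat_lit 7, nat_lit 3, nat_lit 6, nat_lit 5, nat_lit 7, nat_lit 6, nat_lit 4, nat_lit 2, nat_lit 3, nat_lit 7, nat_lit 0, nat_lit 6, nat_lit 5, nat_lit 4, nat_lit 1, nat_lit 0, nat_lit 2, nat_lit 3, nat_lit 7, nat_lit 1, nat_lit 2, nat_lit 3, nat_lit 4, nat_lit 1, nat_lit 2, nat_lit 3, nat_lit 7, nat_lit 2, nat_lit 1, nat_lit 3, nat_lit 2, nat_lit 0, nat_lit 1, nat_lit 0, nat_lit 2, nat_lit 3, nat_lit 4,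 nat_lit 7, nat_lit 4, nat_lit 2, nat_lit 3, nat_lit 4, nat_lit 5, nat_lit 6, nat_lit 8, nat_lit 7, nat_lit 3, nat_lit 4, nat_lit 5, nat_lit 3, nat_lit 7, nat_lit 8, nat_lit 6, nat_lit 5, nat_lit 4, nat_lit 3, nat_lit 2, nat_lit 4, nat_lit 7, nat_lit 5, nat_lit 6],
  [nat_lit 5, nat_lit 7, nat_lit 2, nat_lit 3, nat_lit 4, nat_lit 3, nat_lit 7, nat_lit 3, nat_lit 2, nat_lit 8, nat_lit 7, nat_lit 3, nat_lit 7, nat_lit 4, nat_lit 3, nat_lit 4, nat_lit 6, nat_lit 5, nat_lit 1, nat_lit 0, nat_lit 2, nat_lit 3, nat_lit 7, nat_lit 1, nat_lit 2, nat_lit 3, nat_lit 4, nat_lit 3, nat_lit 2, nat_lit 1, nat_lit 2, nat_lit 0, nat_lit 1, nat_lit 7, nat_lit 3, nat_lit 2, nat_lit 1, nat_lit 7, nat_lit 3, nat_lit 0, nat_lit 5, nat_lit 6, nat_lit 4, nat_lit 7, nat_lit 8, nat_lit 7, nat_lit 3, nat_lit 5, nat_lit 4, nat_lit 3, nat_lit 7, nat_lit 8, nat_lit 6, nat_lit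 5, nat_lit 4, nat_lit 3, nat_lit 2, nat_lit 6, nat_lit 4, nat_lit 5, nat_lit 6],
  [nat_lit 8, nat_lit 7, nat_lit 8, nat_lit 4, nat_lit 3, nat_lit 7, nat_lit 8, nat_lit 4, nat_lit 6, nat_lit 5, nat_lit 4, nat_lit 6, nat_lit 2, nat_lit 3, nat_lit 4, nat_lit 7, nat_lit 4, nat_lit 2, nat_lit 3, nat_lit 4, nat_lit 5, nat_lit 6, nat_lit 4, nat_lit 3, nat_lit 2, nat_lit 5, nat_lit 4, nat_lit 8, nat_lit 7, nat_lit 3, nat_lit 0, nat_lit 1, nat_lit 0, nat_lit 2, nat_lit 3, nat_lit 7, nat_lit 1, nat_lit 2, nat_lit 3, nat_lit 4, nat_lit 3, nat_lit 2, nat_lit 1, nat_lit 7, nat_lit 3, nat_lit 2, nat_lit 0, nat_lit 1, nat_lit 8, nat_lit 5, nat_lit 4, nat_lit 3, nat_lit 6, nat_lit 7, nat_lit 3, nat_lit 4, nat_lit 5, nat_lit 8, nat_lit 7, nat_lit 2, nat_lit 3, nat_lit 7, nat_lit 3, nat_lit 4, nat_lit 5, nat_lit 6, nat_lit 5, nat_lit 4, nat_lit 3, nat_lit 4,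 nat_lit 8, nat_lit 7, nat_lit 2, nat_lit 3, nat_lit 7, nat_lit 8, nat_lit 4, nat_lit 3, nat_lit 2, nat_lit 4, nat_lit 3, nat_lit 5, nat_lit 7, nat_lit 3, nat_lit 4, nat_lit 6, nat_lit 5, nat_lit 4, nat_lit 2, nat_lit 3, nat_lit 4, nat_lit 6, nat_lit 5, nat_lit 4, nat_lit 1, nat_lit 0, nat_lit 2, nat_lit 3, nat_lit 4, nat_lit 1, nat_lit 2, nat_lit 3, nat_lit 1, nat_lit 8, nat_lit 7, nat_lit 3, nat_lit 0, nat_lit 2, nat_lit 1, nat_lit 4, nat_lit 3, nat_lit 2, nat_lit 0, nat_lit 1, nat_lit 8, nat_lit 4, nat_lit 5, nat_lit 6, nat_lit 4, nat_lit 3, nat_lit 2, nat_lit 7, nat_lit 3, nat_lit 5, nat_lit 4, nat_lit 3, nat_lit 7, nat_lit 2, nat_lit 3],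
  [nat_lit 3, nat_lit 2, nat_lit 7, nat_lit 3, nat_lit 4, nat_lit 5, nat_lit 3, nat_lit 7, nat_lit 2, nat_lit 3, nat_lit 4, nat_lit 6, nat_lit 5, nat_lit 4, nat_lit 8, nat_lit 1, nat_lit 0, nat_lit 2, nat_lit 3, nat_lit 4, nat_lit 1, nat_lit 2, nat_lit 0, nat_lit 3, nat_lit 7, nat_lit 8, nat_lit 1, nat_lit 3, nat_lit 2, nat_lit 1, nat_lit 4, nat_lit 3, nat_lit 2, nat_lit 0, nat_lit 1, nat_lit 4, nat_lit 5, nat_lit 6, nat_lit 4, nat_lit 3, nat_lit 2, nat_lit 4, nat_lit 5, nat_lit 6, nat_lit 4, nat_lit 3, nat_lit 7, nat_lit 5, nat_lit 3, nat_lit 4, nat_lit 2, nat_lit 3, nat_lit 4, nat_lit 8, nat_lit 7, nat_lit 3, nat_lit 2, nat_lit 7, nat_lit 8, nat_lit 4, nat_lit 3, nat_lit 4, nat_lit 5, nat_lit 6, nat_lit 5, nat_lit 4, nat_lit 3, nat_lit 7, nat_lit 3, nat_lit 2, nat_lit 7, nat_lit 8, nat_lit 5, nat_lit 4, nat_lit 3, nat_lit 7, nat_lit 6, nat_lit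 3, nat_lit 4, nat_lit 5, nat_lit 8, nat_lit 1, nat_lit 0, nat_lit 2, nat_lit 3, nat_lit 7, nat_lit 1, nat_lit 2, nat_lit 3, nat_lit 4, nat_lit 3, nat_lit 2, nat_lit 1, nat_lit 7, nat_lit 3, nat_lit 2, nat_lit 0, nat_lit 1, nat_lit 0, nat_lit 3, nat_lit 7, nat_lit 8, nat_lit 4, nat_lit 5, nat_lit 2, nat_lit 3, nat_lit 4, nat_lit 6, nat_lit 5, nat_lit 4, nat_lit 3, nat_lit 2, nat_lit 4, nat_lit 7, nat_lit 4, nat_lit 3, nat_lit 2, nat_lit 6, nat_lit 4, nat_lit 5, nat_lit 6, nat_lit 4, nat_lit 8, nat_lit 7, nat_lit 3, nat_lit 4, nat_lit 8, nat_lit 7, nat_lit 8]]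
noncomputable def Ts : List BT := [t0, t1, t2, t3, t4, t5, t6, t7, t8, t9, t10, t11, t12, t13, t14, t15, t16, t17, t18, t19, t20, t21, t22, t23, t24, t25, t26, t27, t28, t29, t30, t31, t32, t33, t34, t35, t36, t37, t38, t39, t40, t41, t42, t43, t44, t45, t46, t47, t48, t49, t50, t51, t52, t53, t54, t55, t56, t57, t58, t59, t60, t61, t62]
noncomputable def M : ℕ := nat_lit 0x100000000000000000000000000000000000000000000000000000000000000010000000000000000000000000000000000000000000000000000000000000001000000000000000000000000000000000000000000000000000000000000000100000000000000000000000000000000000000000000000000000000000000010000000000000000000000000000000000000000000000000000000000000001000000000000000000000000000000000000000000000000000000000000000100000000000000000000000000000000000000000000000000000000000000010000000000000000000000000000000000000000000000000000000000000001000000000000000000000000000000000000000000000000000000000000000100000000000000000000000000000000000000000000000000000000000000010000000000000000000000000000000000000000000000000000000000000001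
noncomputable def P : ℕ → ℕ → ℕ := slP Ts M
noncomputable def Ls : List DH.Lv := [⟨(nat_lit 0), (nat_lit 0), DH.tab1 lb0⟩, ⟨(nat_lit 2030), (nat_lit 15), DH.tab1 lb1⟩, ⟨(nat_lit 3117), (nat_lit 24), DH.tab1 lb2⟩, ⟨(nat_lit 1842), (nat_lit 35), DH.tab1 lb3⟩, ⟨(nat_lit 1935), (nat_lit 48), DH.tab1 lb4⟩]
noncomputable def q : DH.SF := ⟨P, lk (nat_lit 0x3d3e3b3c393a3738353634333132302e2f2d2c2a2b292826272425232122201f1d1e1b1c1a181916171415131210110f0d0e0b0c090a08070605040302010f) (nat_lit 8) (nat_lit 255), (nat_lit 63), (nat_lit 5), (nat_lit 12), (nat_lit 4095), (nat_lit 3510), (nat_lit 5), nat_lit 0x78f732c2d7ee000, Ls,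
  DH.fbk (gen T.π 9) (nat_lit 12) (Ls.map DH.Lv.b)⟩
noncomputable def C : List ℕ := [nat_lit 0x89350944cc08000, nat_lit 0xc084a855e2d6334, nat_lit 0x3907cec2d7ee000, nat_lit 0x66dcdd3da9cd000, nat_lit 0x75c6502dbcdc000, nat_lit 0x78f732c5b7ee000, nat_lit 0xd03ceaa80733000, nat_lit 0x78f85e9557ee000, nat_lit 0x503742ca9ba4000]
noncomputable def m0_1 : ℕ := (nat_lit 0x3fffffffffffffffffffffffffffffffffffffffffffffffffffffffffffffffffffffffffffffffffffffffffffffffffffffffffffffffffffffffffffffffffffffffffffffffffffffffffffffffffffffffffffffffffffffffffffffffffffffffffffffffffffffffffffffffffffffffffffffffffffffffffffffffffffffffffffffffffffffffffffffffffffffffffffffffffffffffffffffffffffffffffffffffffffffffffffffffffffffffffffffffffffffffffffffffffffffffffffffffffffffffffffffffffffffffffffffffffffffffffffffffffffffffffffffffffffffffffffffffffffffffffffffffffffffffffffffffffffffffffffffffffffffffffffffffffffffffffffffffffffffffffffffffffffffffffffffffffffffffffffffffffffffffffffffffffffffffffffffffffffffffffffffffffffffffffffffffffffffffffffffffffffffffffffffffffffffffffffffffffffffffffffffffffffffffffffffffffffffffffffffffffffffffffffffffffffffffffffffffffffffffffffffffffffffffffffffffffffffffffffffffffffffffffffffffffffffffffffff)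
noncomputable def m1_1 : ℕ := (nat_lit 0x3fffffffffffffffffffffffffffffffffffffffffffffffffffffffffffffffffffffffffffffffffffffffffffffffffffffffffffffffffffffffffffffffffffffffffffffffffffffffffffffffffffffffffffffffffffffffffffffffffffffffffffffffffffffffffffffffffffffffffffffffffffffffffffffffffffffffffffffffffffffffffffffffffffffffffffffffffffffffffffffffffffffffffffffffffffffffffffffffffffffffffffffffffffffffffffffffffffffffffffffffffffffffffffffffffffffffffffffffffffffffffffffffffffffffffffffffffffffffffffffffffffffffffffffffffffffffffffffffffffffffffffffffffffffffffffffffffffffffffffffffffffffffffffffffffffffffffffffffffffffffffffffffffffffffffffffffffffffffffffffffffffffffffffffffffffffffffffffffffffffffffffffffffffffffffffffffc00000000000000000000000000000000000000000000000000000000000000000000000000000000000000000000000000000000000000000000000000000000000000000000000000000000000000000000000000000)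
noncomputable def m2_1 : ℕ := (nat_lit 0x388f5d50e9bde74ef1fe0dd1566f3cc3d3df6626bd73f563bffdc6ce6b7e7afdcde1f4034ebedfdbd97fa8cfbea277be4a7fbceefef6b15377d61f7bcdfa5fb6da0d2a61ed8fad1bd8d0ff75dfae7737afa7cefabdd2fe3ff989f737c33f6e7941e2413dda5672477cebd146bb5c18acdf5f0dfaa7efec2bf91a5734dd4fb62615fcf6f6a848b30d08be8f323fb2e8f1fc0fa4d7ffef3bfe30f59eeb56463fb5715f05546a9dded25dae9da07ffb58df4c6fe776ac3f8fd40b242ab5452c6f0c2b3ef177e7e575ee54ff332b45d6f84d125ff8ddcfe6a11baf7cddd97bf7fae55efa5c3623e33cc176da6e137e988f9fceb2ed743e633cfcd7ef8c2cbf6aede18cc774c8c3e9787feea3cebb4bd55687bd0f4474c3d175e4d6bec441dfc3add3e30d3136d36df670b074dadfce7d8a3346b6adfece88f2eb8ae499ac74b7b14bdf5f4ddbcfca5dbf0aa6f7fc8d8e65dcdbb2b737d6fb51d79b9c7f56d4e9d251800000000000000000000000000000000000000000000000000000000000000000000000000000000000000000000000000000000000000000000000000000000000000000000000000000000000000000000000000000)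
noncomputable def m3_1 : ℕ := (nat_lit 0x100000000000880080002000900010008001110000002080000200000000102000409240100200002001010000000000000000101080a04000040000201000100500000000000400120000020110088000000000000000000000000040000020410000020000000820000000001c110200000045800100000400002200048184801000800100092024020080008000400000000001000000102010000100040000080218562000c200002440000020080000000100010000090100008410053400004000800020120000c803000000264a00400000000040001000004000000800001400c044304890410200004000001000080808002000000000200000008221800103402808001000040b00021100080320100240008080000b0002000000040000100020100448020000000400001400200014008100108041008000a000000a02030000000810000000241002000000800200006002000000003040428000000000000000000000000000000000000000000000000000000000000000000000000000000000000000000000000000000000000000000000000000000000000000000000000000000000000000000000000000000)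
noncomputable def m4_1 : ℕ := (nat_lit 0x2000080000000000400000000000000000000000000000000000000000000000000000000000000000000000000000000000000000400000000000000000010000000000000000000000000000000000000000000000000000000000000000000000000001000000000000000000000040000000000000080000000000000000000000000000000000000000000000000000000000000000000000000008000000000000000000000000000000000000000000000000000008000000000000000000000000000000000000000000000000000000080000000000000000000000000000000000000000000000000000000000000000000000000000000000000000000000000000000000000000000000000000000000010000030000000000000000000000000000000000000000000000000000000000000000000020000000000000000000000000000000000000000000001000000000000000000000000000000000000000000000000000000000000000000000000000000000000000000000000000000000000000000000000000000000000000000000000000000000000000000000000000000)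
noncomputable def UK : List (List ℕ) := [[nat_lit 1],
  [nat_lit 2],
  [nat_lit 3],
  [nat_lit 4],
  [nat_lit 5],
  [nat_lit 6],
  [nat_lit 7],
  [nat_lit 8]]
noncomputable def WK : List (List ℕ) := [[nat_lit 1],
  [nat_lit 2],
  [nat_lit 3],
  [nat_lit 4],
  [nat_lit 5],
  [nat_lit 6],
  [nat_lit 7],
  [nat_lit 8],
  [nat_lit 2, nat_lit 4, nat_lit 7, nat_lit 3, nat_lit 2, nat_lit 7, nat_lit 3, nat_lit 8, nat_lit 2, nat_lit 1, nat_lit 4, nat_lit 6, nat_lit 7, nat_lit 3, nat_lit 4, nat_lit 6, nat_lit 5, nat_lit 7, nat_lit 2, nat_lit 4, nat_lit 3, nat_lit 7, nat_lit 6, nat_lit 1, nat_lit 2, nat_lit 4, nat_lit 3, nat_lit 4, nat_lit 1],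
  [nat_lit 3, nat_lit 2, nat_lit 1, nat_lit 5, nat_lit 4, nat_lit 6, nat_lit 5, nat_lit 3, nat_lit 4, nat_lit 2, nat_lit 3, nat_lit 5, nat_lit 6, nat_lit 5, nat_lit 7, nat_lit 6, nat_lit 3, nat_lit 4, nat_lit 2, nat_lit 3, nat_lit 5, nat_lit 4, nat_lit 7, nat_lit 6, nat_lit 3, nat_lit 5, nat_lit 6, nat_lit 4, nat_lit 2, nat_lit 3, nat_lit 7, nat_lit 4, nat_lit 2, nat_lit 3, nat_lit 2, nat_lit 1, nat_lit 5, nat_lit 4, nat_lit 6, nat_lit 8, nat_lit 5, nat_lit 2, nat_lit 1, nat_lit 4, nat_lit 6, nat_lit 3, nat_lit 5],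
  [nat_lit 3, nat_lit 2, nat_lit 4, nat_lit 8, nat_lit 5, nat_lit 6, nat_lit 5, nat_lit 4, nat_lit 3, nat_lit 2, nat_lit 1, nat_lit 7, nat_lit 3, nat_lit 2, nat_lit 4, nat_lit 6, nat_lit 3, nat_lit 5, nat_lit 4, nat_lit 7, nat_lit 3, nat_lit 8, nat_lit 7, nat_lit 3, nat_lit 4, nat_lit 1, nat_lit 2, nat_lit 1, nat_lit 2, nat_lit 3, nat_lit 2, nat_lit 3, nat_lit 7, nat_lit 3, nat_lit 2, nat_lit 3, nat_lit 4, nat_lit 5, nat_lit 6, nat_lit 5, nat_lit 3, nat_lit 8, nat_lit 7, nat_lit 4, nat_lit 2, nat_lit 1, nat_lit 2, nat_lit 3, nat_lit 7, nat_lit 5, nat_lit 6, nat_lit 5, nat_lit 1, nat_lit 3, nat_lit 2, nat_lit 4, nat_lit 8, nat_lit 3],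
  [nat_lit 1, nat_lit 2, nat_lit 3, nat_lit 4, nat_lit 5, nat_lit 4, nat_lit 3, nat_lit 2, nat_lit 3, nat_lit 2, nat_lit 1, nat_lit 8, nat_lit 3, nat_lit 4, nat_lit 7, nat_lit 3, nat_lit 8, nat_lit 2, nat_lit 1, nat_lit 6, nat_lit 2, nat_lit 1, nat_lit 6, nat_lit 4, nat_lit 7, nat_lit 3, nat_lit 8, nat_lit 5, nat_lit 7, nat_lit 3, nat_lit 4, nat_lit 2, nat_lit 5, nat_lit 8, nat_lit 3, nat_lit 7, nat_lit 2, nat_lit 3, nat_lit 4, nat_lit 1, nat_lit 2, nat_lit 8, nat_lit 3, nat_lit 7, nat_lit 5, nat_lit 6, nat_lit 5, nat_lit 3, nat_lit 2, nat_lit 1, nat_lit 4, nat_lit 3, nat_lit 5, nat_lit 8, nat_lit 4, nat_lit 6, nat_lit 5, nat_lit 6],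
  [nat_lit 8, nat_lit 3, nat_lit 1, nat_lit 2, nat_lit 3, nat_lit 1, nat_lit 2, nat_lit 1, nat_lit 4, nat_lit 6, nat_lit 7, nat_lit 1, nat_lit 2, nat_lit 3, nat_lit 4, nat_lit 5, nat_lit 4, nat_lit 3, nat_lit 2, nat_lit 1, nat_lit 3, nat_lit 7, nat_lit 2, nat_lit 8, nat_lit 3, nat_lit 7, nat_lit 4, nat_lit 3, nat_lit 2, nat_lit 1, nat_lit 4, nat_lit 3, nat_lit 7, nat_lit 8, nat_lit 3, nat_lit 7, nat_lit 4, nat_lit 5, nat_lit 3, nat_lit 6, nat_lit 4, nat_lit 2, nat_lit 3, nat_lit 7, nat_lit 1, nat_lit 3, nat_lit 2, nat_lit 1, nat_lit 5, nat_lit 4, nat_lit 6, nat_lit 8, nat_lit 5, nat_lit 2, nat_lit 3, nat_lit 2, nat_lit 4, nat_lit 3, nat_lit 5, nat_lit 4],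
  [nat_lit 8, nat_lit 7, nat_lit 3, nat_lit 4, nat_lit 5, nat_lit 2, nat_lit 1, nat_lit 7, nat_lit 3, nat_lit 8, nat_lit 7, nat_lit 6, nat_lit 2, nat_lit 5, nat_lit 4, nat_lit 3, nat_lit 7, nat_lit 8, nat_lit 7, nat_lit 3, nat_lit 2, nat_lit 4, nat_lit 7, nat_lit 3, nat_lit 2, nat_lit 1, nat_lit 4, nat_lit 3, nat_lit 7, nat_lit 3, nat_lit 2, nat_lit 1, nat_lit 7, nat_lit 8, nat_lit 7, nat_lit 6, nat_lit 4, nat_lit 8, nat_lit 3, nat_lit 7, nat_lit 2, nat_lit 5, nat_lit 6, nat_lit 5, nat_lit 1, nat_lit 4, nat_lit 5, nat_lit 3, nat_lit 4, nat_lit 1, nat_lit 2, nat_lit 3, nat_lit 7, nat_lit 8, nat_lit 4, nat_lit 3, nat_lit 7, nat_lit 5, nat_lit 4, nat_lit 5, nat_lit 1],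
  [nat_lit 1, nat_lit 2, nat_lit 3, nat_lit 4, nat_lit 5, nat_lit 4, nat_lit 3, nat_lit 2, nat_lit 1, nat_lit 8, nat_lit 7, nat_lit 3, nat_lit 4, nat_lit 5, nat_lit 2, nat_lit 6, nat_lit 7, nat_lit 8, nat_lit 3, nat_lit 7, nat_lit 1, nat_lit 2, nat_lit 5, nat_lit 4, nat_lit 3, nat_lit 7, nat_lit 8, nat_lit 2, nat_lit 4, nat_lit 3, nat_lit 2, nat_lit 4, nat_lit 5, nat_lit 3, nat_lit 4, nat_lit 3, nat_lit 2, nat_lit 5, nat_lit 7, nat_lit 3, nat_lit 8, nat_lit 2, nat_lit 7, nat_lit 8, nat_lit 6, nat_lit 1, nat_lit 2, nat_lit 3, nat_lit 2, nat_lit 4, nat_lit 3, nat_lit 7, nat_lit 5, nat_lit 6, nat_lit 4, nat_lit 5, nat_lit 6, nat_lit 8, nat_lit 5, nat_lit 3, nat_lit 2, nat_lit 3],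
  [nat_lit 1, nat_lit 5, nat_lit 4, nat_lit 6, nat_lit 5, nat_lit 7, nat_lit 3, nat_lit 4, nat_lit 2, nat_lit 3, nat_lit 7, nat_lit 5, nat_lit 2, nat_lit 3, nat_lit 6, nat_lit 7, nat_lit 5, nat_lit 7, nat_lit 4, nat_lit 5, nat_lit 3, nat_lit 2, nat_lit 4, nat_lit 3, nat_lit 6, nat_lit 7, nat_lit 3, nat_lit 4, nat_lit 2, nat_lit 3, nat_lit 1, nat_lit 3, nat_lit 7, nat_lit 8, nat_lit 3, nat_lit 5, nat_lit 2, nat_lit 4, nat_lit 3, nat_lit 6, nat_lit 7, nat_lit 8, nat_lit 7, nat_lit 3, nat_lit 4, nat_lit 5, nat_lit 2, nat_lit 4, nat_lit 7, nat_lit 3, nat_lit 4, nat_lit 2, nat_lit 1, nat_lit 7, nat_lit 3, nat_lit 2, nat_lit 4, nat_lit 3, nat_lit 7, nat_lit 4, nat_lit 3, nat_lit 4],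
  [nat_lit 8, nat_lit 7, nat_lit 3, nat_lit 4, nat_lit 5, nat_lit 2, nat_lit 1, nat_lit 7, nat_lit 3, nat_lit 8, nat_lit 7, nat_lit 6, nat_lit 2, nat_lit 5, nat_lit 4, nat_lit 3, nat_lit 7, nat_lit 8, nat_lit 1, nat_lit 2, nat_lit 3, nat_lit 4, nat_lit 5, nat_lit 4, nat_lit 3, nat_lit 2, nat_lit 1],
  [nat_lit 2, nat_lit 3, nat_lit 8, nat_lit 2, nat_lit 1, nat_lit 4, nat_lit 5, nat_lit 4, nat_lit 2, nat_lit 1, nat_lit 4, nat_lit 7, nat_lit 3, nat_lit 4, nat_lit 6, nat_lit 5, nat_lit 2, nat_lit 7, nat_lit 3, nat_lit 8, nat_lit 2, nat_lit 1, nat_lit 4, nat_lit 3, nat_lit 4, nat_lit 6, nat_lit 2, nat_lit 1, nat_lit 7, nat_lit 2, nat_lit 3, nat_lit 6, nat_lit 4, nat_lit 2, nat_lit 8, nat_lit 3, nat_lit 7, nat_lit 2, nat_lit 1, nat_lit 2, nat_lit 3, nat_lit 4, nat_lit 5, nat_lit 4, nat_lit 3, nat_lit 2, nat_lit 1, nat_lit 8, nat_lit 3, nat_lit 7,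 nat_lit 3],
  [nat_lit 3, nat_lit 4, nat_lit 2, nat_lit 7, nat_lit 3, nat_lit 8, nat_lit 2, nat_lit 7, nat_lit 3, nat_lit 7, nat_lit 4, nat_lit 2, nat_lit 1, nat_lit 2, nat_lit 3, nat_lit 5, nat_lit 6, nat_lit 4, nat_lit 3, nat_lit 7, nat_lit 3, nat_lit 2, nat_lit 4, nat_lit 3, nat_lit 5, nat_lit 7, nat_lit 3, nat_lit 8, nat_lit 2, nat_lit 7, nat_lit 8, nat_lit 6, nat_lit 1, nat_lit 2, nat_lit 3, nat_lit 2, nat_lit 4, nat_lit 3, nat_lit 7, nat_lit 5, nat_lit 6, nat_lit 4, nat_lit 2, nat_lit 3, nat_lit 4, nat_lit 5, nat_lit 4, nat_lit 2, nat_lit 3, nat_lit 8, nat_lit 4, nat_lit 2, nat_lit 3],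
  [nat_lit 7, nat_lit 3, nat_lit 4, nat_lit 2, nat_lit 3, nat_lit 7, nat_lit 1, nat_lit 2, nat_lit 6, nat_lit 4, nat_lit 6, nat_lit 8, nat_lit 3, nat_lit 7, nat_lit 4, nat_lit 3, nat_lit 5, nat_lit 4, nat_lit 2, nat_lit 3, nat_lit 4, nat_lit 2, nat_lit 7, nat_lit 1, nat_lit 2, nat_lit 8, nat_lit 3, nat_lit 4, nat_lit 5, nat_lit 7, nat_lit 3, nat_lit 8, nat_lit 4, nat_lit 6, nat_lit 5, nat_lit 4, nat_lit 7, nat_lit 8, nat_lit 3, nat_lit 7, nat_lit 8, nat_lit 7, nat_lit 1, nat_lit 2, nat_lit 4, nat_lit 3, nat_lit 7, nat_lit 4, nat_lit 5, nat_lit 3, nat_lit 4, nat_lit 3, nat_lit 7, nat_lit 4, nat_lit 1, nat_lit 2],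
  [nat_lit 1, nat_lit 5, nat_lit 4, nat_lit 6, nat_lit 5, nat_lit 7, nat_lit 3, nat_lit 4, nat_lit 5, nat_lit 2, nat_lit 6, nat_lit 7, nat_lit 8, nat_lit 3, nat_lit 7, nat_lit 1, nat_lit 2, nat_lit 5, nat_lit 4, nat_lit 3, nat_lit 7, nat_lit 5, nat_lit 6, nat_lit 4, nat_lit 5, nat_lit 7, nat_lit 3, nat_lit 2, nat_lit 8, nat_lit 4, nat_lit 7, nat_lit 3, nat_lit 2, nat_lit 8, nat_lit 7, nat_lit 1, nat_lit 2, nat_lit 4, nat_lit 3, nat_lit 7, nat_lit 8, nat_lit 7, nat_lit 4, nat_lit 2, nat_lit 3, nat_lit 6, nat_lit 7, nat_lit 1, nat_lit 3, nat_lit 4, nat_lit 5, nat_lit 6, nat_lit 5, nat_lit 8, nat_lit 4, nat_lit 3],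
  [nat_lit 3, nat_lit 4, nat_lit 8, nat_lit 5, nat_lit 6, nat_lit 5, nat_lit 4, nat_lit 3, nat_lit 1, nat_lit 7, nat_lit 6, nat_lit 3, nat_lit 2, nat_lit 4, nat_lit 7, nat_lit 8, nat_lit 7, nat_lit 3, nat_lit 4, nat_lit 2, nat_lit 1, nat_lit 7, nat_lit 8, nat_lit 2, nat_lit 3, nat_lit 7, nat_lit 4, nat_lit 8, nat_lit 2, nat_lit 3, nat_lit 7, nat_lit 5, nat_lit 4, nat_lit 6, nat_lit 5, nat_lit 7, nat_lit 3, nat_lit 4, nat_lit 5, nat_lit 2, nat_lit 1, nat_lit 7, nat_lit 3, nat_lit 8, nat_lit 7, nat_lit 6, nat_lit 2, nat_lit 5, nat_lit 4, nat_lit 3, nat_lit 7, nat_lit 5, nat_lit 6, nat_lit 4, nat_lit 5, nat_lit 1],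
  [nat_lit 7, nat_lit 3, nat_lit 4, nat_lit 2, nat_lit 3, nat_lit 5, nat_lit 7, nat_lit 4, nat_lit 3, nat_lit 5, nat_lit 8, nat_lit 4, nat_lit 2, nat_lit 6, nat_lit 7, nat_lit 8, nat_lit 1, nat_lit 3, nat_lit 2, nat_lit 4, nat_lit 3, nat_lit 2, nat_lit 1, nat_lit 7, nat_lit 3, nat_lit 2, nat_lit 5, nat_lit 6, nat_lit 4, nat_lit 3, nat_lit 7, nat_lit 6, nat_lit 2, nat_lit 8, nat_lit 3, nat_lit 7, nat_lit 4, nat_lit 2, nat_lit 3, nat_lit 7, nat_lit 2, nat_lit 7, nat_lit 6, nat_lit 3, nat_lit 5, nat_lit 6, nat_lit 4, nat_lit 2, nat_lit 1, nat_lit 2, nat_lit 3, nat_lit 7, nat_lit 8, nat_lit 7, nat_lit 1, nat_lit 2],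
  [nat_lit 4, nat_lit 8, nat_lit 5, nat_lit 4, nat_lit 1, nat_lit 7, nat_lit 3, nat_lit 2, nat_lit 6, nat_lit 7, nat_lit 8, nat_lit 4, nat_lit 5, nat_lit 3, nat_lit 2, nat_lit 4, nat_lit 3, nat_lit 7, nat_lit 6, nat_lit 1, nat_lit 2, nat_lit 3, nat_lit 7, nat_lit 1, nat_lit 4, nat_lit 3, nat_lit 5, nat_lit 4, nat_lit 5, nat_lit 6, nat_lit 5, nat_lit 2, nat_lit 1, nat_lit 7, nat_lit 8, nat_lit 3, nat_lit 6, nat_lit 2, nat_lit 4, nat_lit 3, nat_lit 7, nat_lit 4, nat_lit 8, nat_lit 5, nat_lit 4, nat_lit 1, nat_lit 3, nat_lit 7, nat_lit 4, nat_lit 2, nat_lit 4, nat_lit 3, nat_lit 5, nat_lit 4, nat_lit 1, nat_lit 5, nat_lit 6, nat_lit 5]]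
noncomputable def mK0_1 : ℕ := (nat_lit 0x3effedffdb7feffd9cfffffffbfffebff7efdbff7ffebffffeffffedbffdffdeffffa776fefffdffdfffd7efdeff6efedfffffccf7ffedcf57ffdfd7fffebf7ffbfeeffbfffefbfffdffffff7fdfff7fdfffffffffffbef7ffbfffff7bfbffffebcffdbfdffffffffdf6ff7fffffffbffffffefd7dfffb6bfffffefbfecdfffffffffffbfffb6fffffffdffffff7fefbfffffffeafefffffbcfffbfefdfffffffdfffffdbbfffffffffee7f5ffffffe7dfffefffdfffbeeeffb5ff7ffffedfa7febffff7fffff4ffdfffffbddfff7dfdd7f6ebfff7fcdff9fffefffbdf7ffeeffebeffffedfffffdbebffffffff97ffffedefcfbff7ffdffe7bffdfdfffffeeffffcffbfebff7fff7fbffffffbef1fd7fefbfff7fffffffff7bffff7f7f7efffffffb77fffefefffbfffffbfffffeff7defff1efdfffbff7f7f77fffbffdfb7ffffffbfbfdfffff3ffbffffbffff7fffdbffffdffff7f7dfdfed27ff9fdfeeffffbe7fdfffffffbfffd7dfffefffffdfffdefe7fffffffff7f7dfffbffffffffdfddfff7effffa95b7e6ffffdb7e7bfdbfdff7fffffffdfffeffffffff6ff7efffffbdffffffff9ffbfeffffffdbfdf7ffffbffdffbfff)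
noncomputable def mK1_1 : ℕ := (nat_lit 0x3efeedee1b7f01299cffcf7ecb0e18b7b7eb9bc76dd497ced6cfbfacbcf5cfd8643287364a2b2dded98947ea0a1d0af64bb67f48f7fd894f53fecfd6443a1c6d1a0ce77b36f6dbf5f8fdf0b27387ee4b9fe4a8e9cbbf9e94f6aefcbe0bfb33fde3c20dbacf5f5de8dd768267b73ef9bc7ff616cd5d8b494bf16eba6ae8c5fff0ff7ddf1bc0d827f5fdb65df6cf55eea3f7ffbf6cabcdccdf9c7bdbfcfd9fd76f7cb7ff7d92aeefbefc5a8265a6c137671e7deffb5f5f2e4c32b5ff5fe59cdca5debd15d7fded74abcbddfe91dd7b657d57b449fd92fcd4b9ff6ef772df553e6d38b8f79e2dfe46edb22fcfff5ad12e7dbedaf8ebc5733493a39dbdfd1addfeef69d0f797ab7b47d53fafe775b3ef1d93feebffe3fbe7ba1e7798dbb5f7b76e7fffffb74f236bc9efbed3aeb933cfe7d5c2fff14c56fd31a777d230fbbfadfb42735dfb38b93fb6d25f17f3fbddbf4fe59885ec9cd771370d5e2527d69fd444f4b7366fc7d3725fbb7f83dff76abaedd9bd5efa77efb177ff7b5dbb739ad9f2ff189954f363bfda11a4e09fcf1b7e715d174b67a3eb3fbc6d927fefedbd67d3affffc2c72fff3b79f7b5afafc77dae535777f9ddcdf29ef)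
noncomputable def mK2_1 : ℕ := (nat_lit 0x304e00ac01400001186a40280002103003088244008404c49082050004610858040206240a0204c2800903000a040204000228002124000042800300400004081800442802040040a04c30005080000014040840428e1000a000142a008922004040042280144c88004602008000482844620000108100030004020840000330052005100088002145920920c804402094f238600880c85480008800091191000c0009250000042404400024028134260215c04008100c4002001b0020804081408805502c80040109998090506305040010006000105099e20a5600940022211080008c000200a1800b06320810000002802020444000010101211c0014008800800512006902840224822030c10000802110600081101040088031018002042132030102220162221000a8104c200002893000002c0001449020022aa48040400d6000200184400005219001060080000400101040020c182002068444409001000984c0400220258204326020214025000201040151551100a0528250006300110491032310000080830000200011100300000312044c90058b60100041016624006252d00183720080304202402472088088030009)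
noncomputable def US : List (List ℕ) := [[nat_lit 0],
  [nat_lit 1],
  [nat_lit 2],
  [nat_lit 3],
  [nat_lit 4],
  [nat_lit 5],
  [nat_lit 7],
  [nat_lit 8]]
noncomputable def WS : List (List ℕ) := [[nat_lit 0],
  [nat_lit 1],
  [nat_lit 2],
  [nat_lit 3],
  [nat_lit 4],
  [nat_lit 5],
  [nat_lit 7],
  [nat_lit 8],
  [nat_lit 4, nat_lit 3, nat_lit 2, nat_lit 8, nat_lit 7, nat_lit 5, nat_lit 4, nat_lit 3, nat_lit 2, nat_lit 1, nat_lit 4, nat_lit 7, nat_lit 8, nat_lit 5, nat_lit 3, nat_lit 4, nat_lit 2, nat_lit 5, nat_lit 3, nat_lit 2, nat_lit 1, nat_lit 4, nat_lit 3, nat_lit 5, nat_lit 0, nat_lit 1, nat_lit 4, nat_lit 8, nat_lit 7, nat_lit 2, nat_lit 1, nat_lit 3, nat_lit 4, nat_lit 8, nat_lit 7, nat_lit 5],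
  [nat_lit 8, nat_lit 0, nat_lit 1, nat_lit 2, nat_lit 1, nat_lit 3, nat_lit 2, nat_lit 4, nat_lit 3, nat_lit 5, nat_lit 8, nat_lit 7, nat_lit 4, nat_lit 1, nat_lit 2, nat_lit 3, nat_lit 4, nat_lit 5, nat_lit 7, nat_lit 8, nat_lit 2, nat_lit 3, nat_lit 7, nat_lit 3, nat_lit 2, nat_lit 0, nat_lit 1, nat_lit 4, nat_lit 5, nat_lit 8, nat_lit 7, nat_lit 8, nat_lit 3, nat_lit 0, nat_lit 1, nat_lit 2, nat_lit 3, nat_lit 4, nat_lit 0, nat_lit 4, nat_lit 7, nat_lit 3],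
  [nat_lit 2, nat_lit 4, nat_lit 1, nat_lit 2, nat_lit 3, nat_lit 2, nat_lit 1, nat_lit 7, nat_lit 1, nat_lit 4, nat_lit 3, nat_lit 2, nat_lit 8, nat_lit 7, nat_lit 4, nat_lit 3, nat_lit 8, nat_lit 7, nat_lit 0, nat_lit 4, nat_lit 5, nat_lit 4, nat_lit 3, nat_lit 0, nat_lit 4, nat_lit 3, nat_lit 2, nat_lit 7, nat_lit 0, nat_lit 1, nat_lit 4, nat_lit 3, nat_lit 4, nat_lit 3, nat_lit 2, nat_lit 7, nat_lit 0, nat_lit 1, nat_lit 3, nat_lit 4, nat_lit 8, nat_lit 7, nat_lit 2, nat_lit 1, nat_lit 0, nat_lit 3, nat_lit 4, nat_lit 2, nat_lit 5, nat_lit 4, nat_lit 7, nat_lit 8],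
  [nat_lit 8, nat_lit 3, nat_lit 1, nat_lit 2, nat_lit 3, nat_lit 2, nat_lit 4, nat_lit 3, nat_lit 5, nat_lit 8, nat_lit 7, nat_lit 4, nat_lit 1, nat_lit 2, nat_lit 3, nat_lit 4, nat_lit 5, nat_lit 7, nat_lit 8, nat_lit 2, nat_lit 3, nat_lit 4, nat_lit 0, nat_lit 1, nat_lit 7, nat_lit 3, nat_lit 2, nat_lit 1, nat_lit 4, nat_lit 3, nat_lit 5, nat_lit 8, nat_lit 7, nat_lit 4, nat_lit 1, nat_lit 2, nat_lit 3, nat_lit 4, nat_lit 5, nat_lit 7, nat_lit 8, nat_lit 2, nat_lit 3, nat_lit 4, nat_lit 0, nat_lit 7, nat_lit 1, nat_lit 2, nat_lit 4, nat_lit 8, nat_lit 7, nat_lit 3, nat_lit 4, nat_lit 7, nat_lit 8, nat_lit 2, nat_lit 1],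
  [nat_lit 7, nat_lit 1, nat_lit 2, nat_lit 1, nat_lit 3, nat_lit 2, nat_lit 4, nat_lit 3, nat_lit 5, nat_lit 8, nat_lit 7, nat_lit 4, nat_lit 1, nat_lit 2, nat_lit 3, nat_lit 4, nat_lit 5, nat_lit 7, nat_lit 8, nat_lit 1, nat_lit 4, nat_lit 5, nat_lit 7, nat_lit 0, nat_lit 3, nat_lit 2, nat_lit 1, nat_lit 4, nat_lit 7, nat_lit 5, nat_lit 3, nat_lit 4, nat_lit 0, nat_lit 7, nat_lit 3, nat_lit 1, nat_lit 2, nat_lit 3, nat_lit 7, nat_lit 1, nat_lit 0, nat_lit 8, nat_lit 7, nat_lit 3, nat_lit 2, nat_lit 3, nat_lit 4, nat_lit 1, nat_lit 2, nat_lit 8, nat_lit 4, nat_lit 5, nat_lit 0, nat_lit 1, nat_lit 4, nat_lit 3, nat_lit 2, nat_lit 1],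
  [nat_lit 7, nat_lit 2, nat_lit 4, nat_lit 8, nat_lit 1, nat_lit 2, nat_lit 3, nat_lit 2, nat_lit 1, nat_lit 0, nat_lit 1, nat_lit 2, nat_lit 4, nat_lit 8, nat_lit 3, nat_lit 2, nat_lit 8, nat_lit 7, nat_lit 3, nat_lit 2, nat_lit 8, nat_lit 7, nat_lit 4, nat_lit 3, nat_lit 5, nat_lit 7, nat_lit 4, nat_lit 1, nat_lit 2, nat_lit 3, nat_lit 0, nat_lit 7, nat_lit 5, nat_lit 4, nat_lit 1, nat_lit 2, nat_lit 3, nat_lit 4, nat_lit 1, nat_lit 2, nat_lit 1, nat_lit 3, nat_lit 8, nat_lit 7, nat_lit 4, nat_lit 3, nat_lit 7, nat_lit 8, nat_lit 4, nat_lit 2, nat_lit 1, nat_lit 2, nat_lit 0, nat_lit 1, nat_lit 8, nat_lit 1, nat_lit 0, nat_lit 1, nat_lit 2, nat_lit 7, nat_lit 3],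
  [nat_lit 2, nat_lit 7, nat_lit 3, nat_lit 1, nat_lit 2, nat_lit 1, nat_lit 3, nat_lit 2, nat_lit 1, nat_lit 0, nat_lit 1, nat_lit 0, nat_lit 2, nat_lit 3, nat_lit 1, nat_lit 4, nat_lit 7, nat_lit 3, nat_lit 0, nat_lit 4, nat_lit 8, nat_lit 7, nat_lit 3, nat_lit 4, nat_lit 8, nat_lit 7, nat_lit 3, nat_lit 5, nat_lit 2, nat_lit 3, nat_lit 4, nat_lit 1, nat_lit 2, nat_lit 3, nat_lit 4, nat_lit 8, nat_lit 7, nat_lit 1, nat_lit 5, nat_lit 4, nat_lit 0, nat_lit 3, nat_lit 7, nat_lit 8, nat_lit 7, nat_lit 5, nat_lit 3, nat_lit 4, nat_lit 0, nat_lit 2, nat_lit 1, nat_lit 0, nat_lit 3, nat_lit 8, nat_lit 7, nat_lit 3, nat_lit 4, nat_lit 5, nat_lit 2, nat_lit 3, nat_lit 4, nat_lit 0],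
  [nat_lit 1, nat_lit 2, nat_lit 3, nat_lit 2, nat_lit 1, nat_lit 0, nat_lit 3, nat_lit 4, nat_lit 8, nat_lit 7, nat_lit 3, nat_lit 4, nat_lit 5, nat_lit 1, nat_lit 2, nat_lit 7, nat_lit 3, nat_lit 0, nat_lit 4, nat_lit 3, nat_lit 2, nat_lit 7, nat_lit 8, nat_lit 5, nat_lit 4, nat_lit 3, nat_lit 4, nat_lit 2, nat_lit 3, nat_lit 1, nat_lit 0, nat_lit 1, nat_lit 2, nat_lit 3, nat_lit 5, nat_lit 2, nat_lit 1, nat_lit 0, nat_lit 1, nat_lit 7, nat_lit 3, nat_lit 2, nat_lit 4, nat_lit 5, nat_lit 3, nat_lit 4, nat_lit 7, nat_lit 8, nat_lit 2, nat_lit 3, nat_lit 1, nat_lit 2, nat_lit 0, nat_lit 3, nat_lit 4, nat_lit 3, nat_lit 7, nat_lit 5, nat_lit 3, nat_lit 4, nat_lit 1, nat_lit 3, nat_lit 7, nat_lit 0],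
  [nat_lit 0, nat_lit 3, nat_lit 4, nat_lit 8, nat_lit 7, nat_lit 3, nat_lit 4, nat_lit 5, nat_lit 1, nat_lit 2, nat_lit 7, nat_lit 3, nat_lit 0, nat_lit 4, nat_lit 3, nat_lit 2, nat_lit 7, nat_lit 8, nat_lit 5, nat_lit 4, nat_lit 3, nat_lit 4, nat_lit 2, nat_lit 3, nat_lit 1, nat_lit 0, nat_lit 1, nat_lit 2, nat_lit 3, nat_lit 5, nat_lit 2, nat_lit 1],
  [nat_lit 8, nat_lit 3, nat_lit 0, nat_lit 1, nat_lit 2, nat_lit 4, nat_lit 8, nat_lit 0, nat_lit 1, nat_lit 2, nat_lit 3, nat_lit 2, nat_lit 3, nat_lit 4, nat_lit 8, nat_lit 7, nat_lit 5, nat_lit 3, nat_lit 4, nat_lit 5, nat_lit 3, nat_lit 7, nat_lit 4, nat_lit 0, nat_lit 2, nat_lit 3, nat_lit 7, nat_lit 4, nat_lit 1, nat_lit 2, nat_lit 3, nat_lit 0, nat_lit 1, nat_lit 8],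
  [nat_lit 0, nat_lit 1, nat_lit 2, nat_lit 8, nat_lit 7, nat_lit 3, nat_lit 2, nat_lit 4, nat_lit 5, nat_lit 4, nat_lit 3, nat_lit 7, nat_lit 0, nat_lit 1, nat_lit 4, nat_lit 3, nat_lit 2, nat_lit 1, nat_lit 7, nat_lit 3, nat_lit 4, nat_lit 1, nat_lit 7, nat_lit 0, nat_lit 5, nat_lit 3, nat_lit 4, nat_lit 3, nat_lit 0, nat_lit 1, nat_lit 2, nat_lit 1, nat_lit 3, nat_lit 0, nat_lit 1, nat_lit 7, nat_lit 8],
  [nat_lit 5, nat_lit 1, nat_lit 2, nat_lit 4, nat_lit 8, nat_lit 7, nat_lit 3, nat_lit 4, nat_lit 7, nat_lit 8, nat_lit 2, nat_lit 3, nat_lit 7, nat_lit 0, nat_lit 1, nat_lit 2, nat_lit 0, nat_lit 1, nat_lit 3, nat_lit 2, nat_lit 5, nat_lit 4, nat_lit 1, nat_lit 0, nat_lit 3, nat_lit 7, nat_lit 8, nat_lit 2, nat_lit 3, nat_lit 2, nat_lit 1, nat_lit 0, nat_lit 8, nat_lit 4, nat_lit 2, nat_lit 1, nat_lit 0, nat_lit 5, nat_lit 3, nat_lit 4,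 nat_lit 3, nat_lit 0, nat_lit 2],
  [nat_lit 4, nat_lit 3, nat_lit 0, nat_lit 4, nat_lit 7, nat_lit 3, nat_lit 2, nat_lit 8, nat_lit 1, nat_lit 0, nat_lit 7, nat_lit 5, nat_lit 3, nat_lit 4, nat_lit 2, nat_lit 3, nat_lit 7, nat_lit 1, nat_lit 0, nat_lit 2, nat_lit 1, nat_lit 8, nat_lit 0, nat_lit 4, nat_lit 7, nat_lit 4, nat_lit 3, nat_lit 2, nat_lit 1, nat_lit 4, nat_lit 3, nat_lit 2, nat_lit 4, nat_lit 1, nat_lit 0, nat_lit 7, nat_lit 5, nat_lit 3, nat_lit 4, nat_lit 0, nat_lit 2, nat_lit 3, nat_lit 7, nat_lit 8, nat_lit 7, nat_lit 2, nat_lit 1, nat_lit 5],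
  [nat_lit 2, nat_lit 1, nat_lit 2, nat_lit 3, nat_lit 2, nat_lit 1, nat_lit 4, nat_lit 3, nat_lit 0, nat_lit 4, nat_lit 7, nat_lit 3, nat_lit 2, nat_lit 8, nat_lit 1, nat_lit 0, nat_lit 7, nat_lit 5, nat_lit 3, nat_lit 4, nat_lit 2, nat_lit 3, nat_lit 7, nat_lit 1, nat_lit 0, nat_lit 2, nat_lit 1, nat_lit 8, nat_lit 0, nat_lit 4, nat_lit 7, nat_lit 4, nat_lit 3, nat_lit 2, nat_lit 1, nat_lit 4, nat_lit 3, nat_lit 2, nat_lit 4, nat_lit 1, nat_lit 0, nat_lit 7, nat_lit 5, nat_lit 3, nat_lit 4, nat_lit 0, nat_lit 2, nat_lit 3, nat_lit 7, nat_lit 8, nat_lit 7, nat_lit 3, nat_lit 2, nat_lit 1],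
  [nat_lit 4, nat_lit 7, nat_lit 3, nat_lit 2, nat_lit 8, nat_lit 7, nat_lit 3, nat_lit 2, nat_lit 0, nat_lit 1, nat_lit 2, nat_lit 4, nat_lit 3, nat_lit 2, nat_lit 5, nat_lit 0, nat_lit 1, nat_lit 4, nat_lit 8, nat_lit 7, nat_lit 0, nat_lit 3, nat_lit 2, nat_lit 4, nat_lit 3, nat_lit 0, nat_lit 4, nat_lit 3, nat_lit 8, nat_lit 7, nat_lit 3, nat_lit 2, nat_lit 4, nat_lit 5, nat_lit 3, nat_lit 4, nat_lit 1, nat_lit 2, nat_lit 3, nat_lit 2, nat_lit 1, nat_lit 7, nat_lit 8, nat_lit 0, nat_lit 1, nat_lit 5, nat_lit 4, nat_lit 2, nat_lit 3, nat_lit 0, nat_lit 7, nat_lit 8, nat_lit 4, nat_lit 3, nat_lit 5],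
  [nat_lit 5, nat_lit 2, nat_lit 4, nat_lit 3, nat_lit 5, nat_lit 7, nat_lit 0, nat_lit 1, nat_lit 8, nat_lit 2, nat_lit 3, nat_lit 7, nat_lit 4, nat_lit 0, nat_lit 5, nat_lit 7, nat_lit 3, nat_lit 2, nat_lit 4, nat_lit 3, nat_lit 1, nat_lit 2, nat_lit 7, nat_lit 3, nat_lit 4, nat_lit 3, nat_lit 2, nat_lit 5, nat_lit 0, nat_lit 1, nat_lit 2, nat_lit 3, nat_lit 4, nat_lit 3, nat_lit 2, nat_lit 1, nat_lit 3, nat_lit 4, nat_lit 7, nat_lit 8, nat_lit 3, nat_lit 2, nat_lit 3, nat_lit 4, nat_lit 3, nat_lit 7, nat_lit 8, nat_lit 2, nat_lit 3, nat_lit 4, nat_lit 3, nat_lit 2, nat_lit 5, nat_lit 0, nat_lit 4, nat_lit 3, nat_lit 8, nat_lit 7]]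
noncomputable def mS0_1 : ℕ := (nat_lit 0x2bffefffffffdfffddfffffdf7fffbfff7ffffbf7fffffbfedeffefcbffff7eff6fff7ff7fefdefffffdf7effecfffbfdffefbfcf7ffffffdf73ffdfff6eefdfddfedffeffffe3effffffeff7ffcffff7fffffffffffbffffffeffff7f7feffffe9ffff7dfffffffffdcfffffffffffffffffff9fdfffc7feff7fefffeffdffffffdbdfffffffff7fdf7dffffffffffdffffdffdbefffedffeffbffefffffffffdfdffffffefefeffffff7f77ffffbfffffffffffbfffffbfffbf7ff9ffde7fffefbfff5ffffffdffff77ffdffffffffdff3ff7fffddbf7ffffffffbef5ffae7fffafffdffffffffbffffffeffbf5ffdfbfffebbfffffffffffffe7dfff7fefffffeffbf7bff7f7ffffbffffff7fffdefffffdfefeffffafffbffbfffffffffdffffffffbfefffbfffff7ffffbdfffff7fff3fffdfffefffdffff7ffbff1fffffffffffbffffffdbffbfffefe3fdffffefbfffdfffff5f1fdfffffffff2ffefff1fe7544dfbff73bfffffdfeefffff5ff6befe7bffdddefedf7ffffffffffefeff9bffefefe7b4cfb7b77fff9b7e79febfff5fdecefffcfbff9fbfefff76ffcffffebcbbc7edfffbba3adf7ffff15dfd7ffbbfb9bf9e7e)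
noncomputable def mS1_1 : ℕ := (nat_lit 0x21dd03739cdd9ff095fe57d4f7bfdabdf4a85ebd3ebfe42921c3e6d4a7f6b1a816b5f73b3a295ae1ff25f7c2fec3f41b9f5efbd8f73cd6ff9532f9cfff4cc7cbd8784db6e53f60efede9fa597fdc05ce234ebb7bef77a7fdef80a67c7f3e6dffe68bfa579bb3e7b7f714c19e52dbeffb3f6f5f79955ffc38afb7e61ef4f6dffdcf85acff5bbf4d47bda7c777defb3fa9fffd4fbd1a3ffe4feef7abca8bf63f7375fd7979698eeccfde9356575fabf8efff4ff36bf83ab759f5fad3f51ded27f9fef9ed71f2ffa3dc0fc308ecae75b27ecef1ff6dc114bf2fde69b79be641faa591faedfd7d7ff0f03b63fef0f12944f4fbadee9bd2775dffe763b679cd3542f2e642fb3b7bf70e7ff7fbdf5ee759ed5e7f63b130feff5784cb9eb9fd7ffbef4d58cef92b2fe7ed2526f577f9fbdff7be56553de755bdef7fdcdaf7eebfb19bebf9b7afe97ff4ff0b8107efee41ddfffd4eb73553afaf4e1d8ddfbfef8f017270305c7100dfbf73127ffffceeee4fce0df62cfe5a7bd990f2cb2f32ff5fff7e1efb997de62fe5b4ce97b75ff79b3c797eb6f7175ecc47783bbf938daefb66fcc9c6682819c369fdf2982adf6761c105f951d32fb9bf9a4a)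
noncomputable def mS2_1 : ℕ := (nat_lit 0xcc00411014802011684400c328d038e4204001080704200002e044025421080080012000281080400152403c0210101c0611804104068401029843840401038850490280102024000078084180000200061009810784a48900821011000011608280510200400062108000004020b028201c080413501001040012600410a802008c0a409a49061480006180a020014804420400100448849508480a12123000110918418c200d0882440054083000f20aa1021018120000208180012000a040404411801882000d0000a02825100040c001048000152648208088000170a580ca4108400300200000046050010024e2000480c024589a41209440c11000800240000108010470618098444000010046021030029810000004907930496a00000800090020450106903350e187810042002000441c08651040a00428018242490506605080360201010b8a0109118000031002822206000008240283004250001c20008005000240000c600400440c800020420041904000040232024c2400100021840441a0000200004281000010a200061c00010810240000800a0400000020000042081080002001004000053041100ab1100048)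

end H15.YB.Y1
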